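import Groth.Agent.H10Coh.HypSq.Results
import Groth.Agent.H28Surf.Pair

/-!
# Classes on the square of a hyperelliptic curve
-/

set_option autoImplicit false
set_option linter.style.haveILetI false
set_option linter.unusedSectionVars false
set_option backward.isDefEq.respectTransparency.types false

universe u

open CategoryTheory CategoryTheory.Limits AlgebraicGeometry

namespace Groth.Agent.H10Coh.HypSq

variable {k : Type u} [Field k] [IsAlgClosed k] {C : Scheme.{u}} [C.Over (Spec (CommRingCat.of k))]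
  [IsProper (C ↘ Spec (CommRingCat.of k))] [Smooth (C ↘ Spec (CommRingCat.of k))] [ConnectedSpace ↥C]
  (hdim : topologicalKrullDim ↥C = 1) {g : ℕ} (hg : 2 ≤ g) (hgen : Curv2.genus k C = g)
  (κ : C ⟶ CohB1.ProjSpace 1 k) (hκ : κ ≫ CohB1.ProjSpace.toSpec 1 k = (C ↘ Spec (CommRingCat.of k)))
  [IsFinite κ] [Flat κ] (hκ2 : ∀ y : ↥(CohB1.ProjSpace 1 k), κ.finrank y = 2)
  (σ : C ⟶ C) (hσ : σ ≫ κ = κ)
  (hσp : σ ≫ (C ↘ Spec (CommRingCat.of k)) = (C ↘ Spec (CommRingCat.of k)))
  {N : (Sq k C).Modules} (hN : PicF.IsInvertible N)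
  (hNinv : ClSub.IsInverseOf N (ClSub.idealMod (gr σ hσp).ker))

attribute [local instance] overSq

variable (k) in
/-- The module `p₁^* L ⊗ p₂^* M`. -/
noncomputable abbrev Bx (L M : C.Modules) : (Sq k C).Modules :=
  CohB1.tensorMod ((Scheme.Modules.pullback (pullback.fst (C ↘ Spec (CommRingCat.of k)) (C ↘ Spec (CommRingCat.of k)))).obj L)
    ((Scheme.Modules.pullback (pullback.snd (C ↘ Spec (CommRingCat.of k)) (C ↘ Spec (CommRingCat.of k)))).obj M)

omit [IsProper (C ↘ Spec (CommRingCat.of k))] [Smooth (C ↘ Spec (CommRingCat.of k))] [ConnectedSpace ↥C] in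
theorem isInvertible_Bx {L M : C.Modules} (hL : PicF.IsInvertible L) (hM : PicF.IsInvertible M) :
    PicF.IsInvertible (Bx k L M) :=
  H11Ample.isInvertible_tensor (H11Ample.isInvertible_pullback _ hL) (H11Ample.isInvertible_pullback _ hM)

include hdim in
/-- The Euler characteristic of an exterior product. -/
theorem euler_Bx {L M : C.Modules} (hL : PicF.IsInvertible L) (hM : PicF.IsInvertible M) :
    Curv2.euler k (Sq k C) (Bx k L M) = Curv2.euler k C L * Curv2.euler k C M := by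
  obtain ⟨hP, -, -, -⟩ := sq_props (k := k) (C := C) hdim
  haveI := hP
  haveI := H28Int.isNoetherian k (X := Sq k C)
  haveI : CompactSpace ↥C := QuasiCompact.compactSpace_of_compactSpace (C ↘ Spec (CommRingCat.of k))
  haveI : IsLocallyNoetherian C := LocallyOfFiniteType.isLocallyNoetherian (C ↘ Spec (CommRingCat.of k))
  have cL := H11Ample.isCoh_of_isInvertible hL
  have cM := H11Ample.isCoh_of_isInvertible hM
  haveI : ∀ p, Module.Finite k (Coh.HH C L p) := fun p => H10Coh.finite_HH_proper k C _ cL p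
  haveI : ∀ p, Module.Finite k (Coh.HH C M p) := fun p => H10Coh.finite_HH_proper k C _ cM p
  have hn : ∀ n : ℕ, Module.finrank k (Coh.HH (Sq k C) (Bx k L M) n) =
      ∑ p : Fin (n + 1), Module.finrank k (Coh.HH C L (p : ℕ)) * Module.finrank k (Coh.HH C M (n - (p : ℕ))) := by
    intro n
    obtain ⟨e⟩ := S7635.result k C C L cL.1 M cM.1 n
    refine e.symm.finrank_eq.trans ((Module.finrank_pi_fintype k).trans ?_)
    simp only [Module.finrank_tensorProduct]
  haveI := h_above_one (k := k) hdim cL.1 2 one_lt_two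
  haveI := h_above_one (k := k) hdim cM.1 2 one_lt_two
  have zL : Module.finrank k (Coh.HH C L 2) = 0 := Module.finrank_zero_of_subsingleton
  have zM : Module.finrank k (Coh.HH C M 2) = 0 := Module.finrank_zero_of_subsingleton
  rw [euler_sq hdim (H11Ample.isCoh_of_isInvertible (isInvertible_Bx hL hM)).1, hn, hn, hn,
    H29RR.euler_eq_sub (k := k) hdim.le L, H29RR.euler_eq_sub (k := k) hdim.le M]
  simp only [Fin.sum_univ_succ, Fin.sum_univ_zero, Fin.val_zero, Fin.val_succ, zL, zM, zero_add, add_zero,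
    Nat.sub_zero, mul_zero, zero_mul]
  norm_num
  ring

include hdim hg hgen hκ hκ2 hσ hσp in
/-- The involution preserves degrees. -/
theorem deg_pullback_invol (hσ1 : σ ≠ 𝟙 C) {M : C.Modules} (hM : PicF.IsInvertible M) :
    Curv2.deg k C ((Scheme.Modules.pullback σ).obj M) 1 = Curv2.deg k C M 1 := by
  haveI : IsIntegral C := H8Props.DvrCurve.isIntegral_of_smooth_connected (C ↘ Spec (CommRingCat.of k))
  haveI := H29RR.isNoetherian_of_proper (k := k) (X := C)
  have hsq := invol_sq hdim κ hκ hκ2 σ hσ hσ1 hσp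
  haveI : IsIso σ := ⟨σ, hsq, hsq⟩
  have hL := isInvertible_pencil (k := k) κ
  have h := H27HW.deg_pullback_prop k hdim σ hσp
    (H10Coh.isCoh_push_of_isFinite σ _ (H10Coh.isCoh_structureModule' C)) hM hL
  have hd := deg_pencil_pow hdim hg hgen κ hκ hκ2 1
  rw [H27Prod.deg_congr k (show CohB1.tensorPow (pencil κ) 1 ≅ pencil κ from H10Coh.Tw.leftUnitIso _)] at hd
  rw [H27Prod.deg_congr k ((Scheme.Modules.pullbackComp σ κ).app (Twist.twistProjSpace 1 k 1) ≪≫ eqToIso (by rw [hσ]) :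
    (Scheme.Modules.pullback σ).obj (pencil κ) ≅ pencil κ), hd] at h
  push_cast at h
  linarith

include hdim in
theorem deg_pullback_gr_fst {L : C.Modules} :
    Curv2.deg k C ((Scheme.Modules.pullback (gr σ hσp)).obj
      ((Scheme.Modules.pullback (pullback.fst (C ↘ Spec (CommRingCat.of k)) (C ↘ Spec (CommRingCat.of k)))).obj L)) 1 =
      Curv2.deg k C L 1 :=
  H27Prod.deg_congr k ((Scheme.Modules.pullbackComp (gr σ hσp) (pullback.fst _ _)).app _ ≪≫ eqToIso (by rw [gr_fst]) ≪≫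
      (Scheme.Modules.pullbackId C).app _)

include hdim hg hgen hκ hκ2 hσ in
/-- The degree of an exterior product on the graph. -/
theorem deg_gr_Bx (hσ1 : σ ≠ 𝟙 C) {L M : C.Modules} (hL : PicF.IsInvertible L) (hM : PicF.IsInvertible M) :
    Curv2.deg k C ((Scheme.Modules.pullback (gr σ hσp)).obj (Bx k L M)) 1 = Curv2.deg k C L 1 + Curv2.deg k C M 1 := by
  rw [H27Prod.deg_congr k (S11747.pullTensor (gr σ hσp) _ _),
    H27Prod.deg_tensor k hdim.le (H11Ample.isInvertible_pullback _ (H11Ample.isInvertible_pullback _ hL))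
      (H11Ample.isInvertible_pullback _ (H11Ample.isInvertible_pullback _ hM)), deg_pullback_gr_fst hdim σ hσp,
    H27Prod.deg_congr k (show (Scheme.Modules.pullback (gr σ hσp)).obj
        ((Scheme.Modules.pullback (pullback.snd (C ↘ Spec (CommRingCat.of k)) (C ↘ Spec (CommRingCat.of k)))).obj M) ≅
        (Scheme.Modules.pullback σ).obj M from
      (Scheme.Modules.pullbackComp (gr σ hσp) (pullback.snd _ _)).app M ≪≫ eqToIso (by rw [gr_snd])),
    deg_pullback_invol hdim hg hgen κ hκ hκ2 σ hσ hσp hσ1 hM]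

include hdim hg hgen hκ hκ2 hσ hN hNinv in
/-- The degree of the graph on itself. -/
theorem deg_gr_N : Curv2.deg k C ((Scheme.Modules.pullback (gr σ hσp)).obj N) 1 = 2 - 2 * (g : ℤ) := by
  obtain ⟨e⟩ := nonempty_pullback_gr_pow hdim hg hgen κ hκ hκ2 σ hσ hσp hN hNinv 1
  have h := H27Prod.deg_congr k e
  rw [H27Prod.deg_tensor k hdim.le (H11Ample.isInvertible_pullback _ (H11Ample.isInvertible_tensorPow hN 1))
    (H11Ample.isInvertible_tensorPow (isInvertible_pencil κ) _), H27Prod.deg_structure,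
    deg_pencil_pow hdim hg hgen κ hκ hκ2, mul_one, Nat.cast_sub (by omega : 1 ≤ g)] at h
  rw [← H27Prod.deg_congr k ((Scheme.Modules.pullback (gr σ hσp)).mapIso (H10Coh.Tw.leftUnitIso N) :
    (Scheme.Modules.pullback (gr σ hσp)).obj (CohB1.tensorPow N 1) ≅ _)]
  push_cast at h
  linarith

include hdim hN hNinv in
/-- Pairing with the class of the graph. -/
theorem pr_N {A : (Sq k C).Modules} (hA : PicF.IsInvertible A) :
    H28Surf.pr k N A = Curv2.deg k C ((Scheme.Modules.pullback (gr σ hσp)).obj A) 1 := by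
  obtain ⟨hP, hs, hi, hd⟩ := sq_props (k := k) (C := C) hdim
  haveI := hP; haveI := hs; haveI := hi
  haveI : IsIntegral C := H8Props.DvrCurve.isIntegral_of_smooth_connected (C ↘ Spec (CommRingCat.of k))
  haveI := isClosedImmersion_gr σ hσp
  obtain ⟨F, hF, ⟨eF⟩, hpr, -⟩ := H27HW.exists_curve_class k hd hdim (gr σ hσp) (gr_over σ hσp)
  obtain ⟨eN⟩ := hNinv
  let e : N ≅ F := (H10Coh.Tw.rightUnitIso N).symm ≪≫
    PicGrp.tensorModIso (Iso.refl N) ((H10Coh.Tw.commIso _ F) ≪≫ eF).symm ≪≫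
    (H10Coh.Tw.assoc N _ F).symm ≪≫ PicGrp.tensorModIso eN (Iso.refl F) ≪≫ H10Coh.Tw.leftUnitIso F
  rw [H28Surf.pr_congr_left k hA e, hpr A hA]

include hdim hg hgen hκ hκ2 hσ hN hNinv in
/-- The Euler characteristic of `p₁^*L ⊗ p₂^*M ⊗ N^r`. -/
theorem euler_Bx_pow (hσ1 : σ ≠ 𝟙 C) {L M : C.Modules} (hL : PicF.IsInvertible L) (hM : PicF.IsInvertible M) :
    ∀ r : ℕ, Curv2.euler k (Sq k C) (CohB1.tensorMod (Bx k L M) (CohB1.tensorPow N r)) =
      Curv2.euler k C L * Curv2.euler k C M + (r : ℤ) * (Curv2.deg k C L 1 + Curv2.deg k C M 1) -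
        ((g : ℤ) - 1) * r * (r + 2)
  | 0 => by
    rw [H25Euler.euler_congr (show CohB1.tensorMod (Bx k L M) (CohB1.tensorPow N 0) ≅ Bx k L M from H10Coh.Tw.rightUnitIso _),
      euler_Bx hdim hL hM]
    push_cast
    ring
  | r + 1 => by
    obtain ⟨hP, hs, hi, -⟩ := sq_props (k := k) (C := C) hdim
    haveI := hP; haveI := hs; haveI := hi
    haveI := H28Int.isNoetherian k (X := Sq k C)
    haveI : IsIntegral C := H8Props.DvrCurve.isIntegral_of_smooth_connected (C ↘ Spec (CommRingCat.of k))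
    haveI := H29RR.isNoetherian_of_proper (k := k) (X := C)
    haveI := isClosedImmersion_gr σ hσp
    have ih := euler_Bx_pow hσ1 hL hM r
    have hgN := deg_gr_N hdim hg hgen κ hκ hκ2 σ hσ hσp hN hNinv
    obtain ⟨eN⟩ := hNinv
    have hB := isInvertible_Bx (k := k) hL hM
    let A := CohB1.tensorMod (Bx k L M) (CohB1.tensorPow N (r + 1))
    have hA : PicF.IsInvertible A := H11Ample.isInvertible_tensor hB (H11Ample.isInvertible_tensorPow hN (r + 1))
    obtain ⟨S, hS, e₁, e₂, e₃⟩ := H28Surf.exists_restrict_seq k (gr σ hσp).ker hA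
    let i₁ : S.X₁ ≅ CohB1.tensorMod (Bx k L M) (CohB1.tensorPow N r) := eqToIso e₁ ≪≫ H10Coh.Tw.commIso _ _ ≪≫
      H10Coh.Tw.assoc _ _ _ ≪≫ PicGrp.tensorModIso (Iso.refl _) (H10Coh.Tw.assoc _ N _ ≪≫
        PicGrp.tensorModIso (Iso.refl _) eN ≪≫ H10Coh.Tw.rightUnitIso _)
    let i₂ : S.X₂ ≅ A := eqToIso e₂ ≪≫ H10Coh.Tw.leftUnitIso _
    haveI : (Coh.structureModule C).IsQuasicoherent := H10Coh.isQuasicoherent_unit
    obtain ⟨t⟩ := H10Coh.Tw.nonempty_push_tensor_iso (gr σ hσp) (Coh.structureModule C) hA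
    let i₃ : S.X₃ ≅ (Coh.push (gr σ hσp)).obj ((Scheme.Modules.pullback (gr σ hσp)).obj A) :=
      eqToIso e₃ ≪≫ PicGrp.tensorModIso (H28Vert.quotModKerIso (gr σ hσp)) (Iso.refl _) ≪≫ t ≪≫
        (Coh.push (gr σ hσp)).mapIso (H10Coh.Tw.leftUnitIso _)
    have h := H25Euler.euler_add (k := k) hS
      (H10Coh.isCoh_of_iso i₁.symm (H11Ample.isCoh_of_isInvertible (H11Ample.isInvertible_tensor hB (H11Ample.isInvertible_tensorPow hN r))))
      (H10Coh.isCoh_of_iso i₂.symm (H11Ample.isCoh_of_isInvertible hA))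
      (e₃ ▸ H11Ample.isCoh_tensor (H28Surf.isCoh_quot k _) hA)
    haveI := (H11Ample.isCoh_of_isInvertible (H11Ample.isInvertible_pullback (gr σ hσp) hA)).1
    rw [H25Euler.euler_congr i₁, H25Euler.euler_congr i₂, H25Euler.euler_congr i₃,
      H28Int.Push.euler_push k (gr σ hσp) (gr_over σ hσp)] at h
    have hdA : Curv2.deg k C ((Scheme.Modules.pullback (gr σ hσp)).obj A) 1 =
        Curv2.deg k C L 1 + Curv2.deg k C M 1 + ((r : ℤ) + 1) * (2 - 2 * g) := by
      obtain ⟨eP⟩ := H11Ample.exists_iso_pullback_tensorPow (gr σ hσp) hN (r + 1)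
      have hgB := deg_gr_Bx hdim hg hgen κ hκ hκ2 σ hσ hσp hσ1 hL hM
      rw [H27Prod.deg_congr k (S11747.pullTensor (gr σ hσp) (Bx k L M) (CohB1.tensorPow N (r + 1))),
        H27Prod.deg_tensor k hdim.le (H11Ample.isInvertible_pullback _ hB)
          (H11Ample.isInvertible_pullback _ (H11Ample.isInvertible_tensorPow hN (r + 1))),
        hgB, H27Prod.deg_congr k eP, H27HW.deg_pow k hdim.le (H11Ample.isInvertible_pullback _ hN), hgN]
      push_cast
      ring
    have hrr := H29RR.riemann_roch (k := k) hdim.le ((Scheme.Modules.pullback (gr σ hσp)).obj A)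
    rw [hdA, H29RR.finrank_h0_structure k C, hgen, ← H29RR.euler_eq_sub (k := k) hdim.le] at hrr
    rw [h, ih, hrr]
    push_cast
    ring

end Groth.Agent.H10Coh.HypSq
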