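import Groth.Agent.H29DoubleCover.Deck
import Groth.Agent.H29RR.Clifford
import Groth.Agent.H29RR.Consts
import Groth.Agent.H22Alg.CurveAmple
import Groth.Agent.H8Props.DvrCurve.GeomInt
import Groth.Agent.H10Coh.CurveBdd.Regular

/-!
# Cohomology of the powers of the pencil of a hyperelliptic curve
-/

set_option autoImplicit false
set_option linter.style.haveILetI false

universe u

open CategoryTheory CategoryTheory.Limits AlgebraicGeometry

namespace Groth.Agent.H10Coh.HypSq

variable {k : Type u} [Field k] [IsAlgClosed k] {C : Scheme.{u}} [C.Over (Spec (CommRingCat.of k))]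
  [IsProper (C ↘ Spec (CommRingCat.of k))] [Smooth (C ↘ Spec (CommRingCat.of k))] [ConnectedSpace ↥C]
  (hdim : topologicalKrullDim ↥C = 1) {g : ℕ} (hg : 2 ≤ g) (hgen : Curv2.genus k C = g)
  (κ : C ⟶ CohB1.ProjSpace 1 k) (hκ : κ ≫ CohB1.ProjSpace.toSpec 1 k = (C ↘ Spec (CommRingCat.of k)))
  [IsFinite κ] [Flat κ] (hκ2 : ∀ y : ↥(CohB1.ProjSpace 1 k), κ.finrank y = 2)

/-- The pencil `κ^* O(1)`. -/
noncomputable abbrev pencil : C.Modules := (Scheme.Modules.pullback κ).obj (Twist.twistProjSpace 1 k 1)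

omit [IsAlgClosed k] [C.Over (Spec (CommRingCat.of k))] [IsProper (C ↘ Spec (CommRingCat.of k))]
  [Smooth (C ↘ Spec (CommRingCat.of k))] [ConnectedSpace ↥C] [IsFinite κ] [Flat κ] in
theorem isInvertible_pencil : PicF.IsInvertible (pencil κ) :=
  H11Ample.isInvertible_pullback κ ((H10Coh.Stab.isTwistFamily_projSpace 1 k).inv 1)

include hdim hg hgen hκ hκ2 in
theorem deg_pencil_pow (m : ℕ) : Curv2.deg k C (CohB1.tensorPow (pencil κ) m) 1 = 2 * (m : ℤ) := by
  haveI : IsIntegral C := H8Props.DvrCurve.isIntegral_of_smooth_connected (C ↘ Spec (CommRingCat.of k))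
  rw [H22Alg.CurveAmple.deg_tensorPow hdim.le (isInvertible_pencil κ) m,
    (H29DoubleCover.pull_surjective hdim (H29RR.finrank_h0_structure k C) (by omega) κ hκ hκ2).1]
  ring

include hdim hg hgen hκ hκ2 in
theorem h1_pencil_pow (m : ℕ) (hm : g ≤ m) : Subsingleton (Coh.HH C (CohB1.tensorPow (pencil κ) m) 1) := by
  haveI : IsIntegral C := H8Props.DvrCurve.isIntegral_of_smooth_connected (C ↘ Spec (CommRingCat.of k))
  refine H29RR.h1_vanish_of_deg (k := k) hdim.le (H29RR.finrank_h0_structure k C)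
    (H11Ample.isInvertible_tensorPow (isInvertible_pencil κ) m) ?_
  rw [deg_pencil_pow hdim hg hgen κ hκ hκ2 m, hgen]
  omega

include k hdim in
omit [IsAlgClosed k] [Smooth (C ↘ Spec (CommRingCat.of k))] [ConnectedSpace ↥C] in
theorem h_above_one {M : C.Modules} (hM : Coh.IsQCoh M) (p : ℕ) (hp : 1 < p) :
    Subsingleton (Coh.HH C M p) :=
  H10Coh.CurveBdd.subsingleton_HH_of_dim (k := k) hM isClosed_univ (Set.subset_univ _) (d := 1)
    (((Homeomorph.Set.univ ↥C).isHomeomorph.topologicalKrullDim_eq).le.trans hdim.le) hp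

end Groth.Agent.H10Coh.HypSq
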