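import Groth.Agent.H10Coh.HypSq.Fixed
import Groth.Agent.H28RR.Sect

/-!
# The diagonal plus the graph is the box of two pencils
-/

set_option autoImplicit false
set_option linter.style.haveILetI false
set_option linter.unusedSectionVars false
set_option backward.isDefEq.respectTransparency.types false

universe u

open CategoryTheory CategoryTheory.Limits AlgebraicGeometry

namespace Groth.Agent.H10Coh.HypSq

variable {k : Type u} [Field k] [IsAlgClosed k] {C : Scheme.{u}} [C.Over (Spec (CommRingCat.of k))]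
  [IsProper (C ↘ Spec (CommRingCat.of k))] [Smooth (C ↘ Spec (CommRingCat.of k))] [ConnectedSpace ↥C]
  (hdim : topologicalKrullDim ↥C = 1) {g : ℕ} (hg : 2 ≤ g) (hgen : Curv2.genus k C = g)
  (κ : C ⟶ CohB1.ProjSpace 1 k) (hκ : κ ≫ CohB1.ProjSpace.toSpec 1 k = (C ↘ Spec (CommRingCat.of k)))
  [IsFinite κ] [Flat κ] (hκ2 : ∀ y : ↥(CohB1.ProjSpace 1 k), κ.finrank y = 2)
  (σ : C ⟶ C) (hσ : σ ≫ κ = κ) (hσ1 : σ ≠ 𝟙 C)
  (hσp : σ ≫ (C ↘ Spec (CommRingCat.of k)) = (C ↘ Spec (CommRingCat.of k)))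
  {N : (Sq k C).Modules} (hN : PicF.IsInvertible N)
  (hNinv : ClSub.IsInverseOf N (ClSub.idealMod (gr σ hσp).ker))
  {ND : (Sq k C).Modules} (hND : PicF.IsInvertible ND)
  (hNDinv : ClSub.IsInverseOf ND (ClSub.idealMod (pullback.diagonal (C ↘ Spec (CommRingCat.of k))).ker))

attribute [local instance] overSq

/-- The box of two pencils is ample. -/
theorem isAmple_Fm_one : CohB1.IsAmple (Fm (k := k) κ 1) :=
  H8Props.Ample.isAmple_prod _ _
    (H11Ample.isAmple_of_iso (H10Coh.Tw.leftUnitIso (pencil κ)).symm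
      (H11Ample.isAmple_pullback_of_isAffineHom κ (H11Ample.isAmple_twistProjSpace 1 k)))
    (H11Ample.isAmple_of_iso (H10Coh.Tw.leftUnitIso (pencil κ)).symm
      (H11Ample.isAmple_pullback_of_isAffineHom κ (H11Ample.isAmple_twistProjSpace 1 k)))

include hdim hg hgen hκ hκ2 in
/-- The square of the box of two pencils. -/
theorem pr_Fm_one : H28Surf.pr k (Fm (k := k) κ 1) (Fm (k := k) κ 1) = 8 := by
  haveI := H29RR.isNoetherian_of_proper (k := k) (X := C)
  let O := Coh.structureModule C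
  let L := CohB1.tensorPow (pencil κ) 1
  have hL : PicF.IsInvertible L := H11Ample.isInvertible_tensorPow (isInvertible_pencil κ) 1
  have hO : PicF.IsInvertible O := H28Int.isInvertible_structureModule C
  let eO : Coh.structureModule (Sq k C) ≅ Bx k O O := (H16Derived.KFlat.Stalk.structurePullbackIso
      (pullback.fst (C ↘ Spec (CommRingCat.of k)) (C ↘ Spec (CommRingCat.of k)))).symm ≪≫ (fstIso O).symm
  let eF : Fm (k := k) κ 1 ≅ Bx k L L := Iso.refl _
  show (Curv2.euler k _ (Coh.structureModule (Sq k C)) - Curv2.euler k _ (CohB1.tensorMod (Fm (k := k) κ 1) _)) -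
    (Curv2.euler k _ (CohB1.tensorMod (Fm (k := k) κ 1) (Coh.structureModule (Sq k C))) -
      Curv2.euler k _ (CohB1.tensorMod (Fm (k := k) κ 1) (CohB1.tensorMod (Fm (k := k) κ 1) (Coh.structureModule (Sq k C))))) = _
  rw [H25Euler.euler_congr (H10Coh.Tw.rightUnitIso (Fm (k := k) κ 1) ≪≫ eF),
    H25Euler.euler_congr (PicGrp.tensorModIso (Iso.refl _) (H10Coh.Tw.rightUnitIso (Fm (k := k) κ 1)) ≪≫
      interchange _ _ _ _ ≪≫ PicGrp.tensorModIso (S11747.pullTensor _ L L).symm (S11747.pullTensor _ L L).symm :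
        _ ≅ Bx k (CohB1.tensorMod L L) (CohB1.tensorMod L L)),
    H25Euler.euler_congr eO,
    euler_Bx hdim hL hL, euler_Bx hdim hO hO,
    euler_Bx hdim (H11Ample.isInvertible_tensor hL hL) (H11Ample.isInvertible_tensor hL hL),
    euler_curve hdim hgen, euler_curve hdim hgen L, euler_curve hdim hgen (CohB1.tensorMod L L),
    H27Prod.deg_tensor k hdim.le hL hL, H27Prod.deg_structure, deg_pencil_pow hdim hg hgen κ hκ hκ2 1]
  push_cast
  ring

include hdim hg hgen hκ hκ2 hσ hσp hN hNinv in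
/-- The graph pairs with the box of two pencils in four. -/
theorem pr_N_Fm_one : H28Surf.pr k N (Fm (k := k) κ 1) = 4 := by
  obtain ⟨e⟩ := nonempty_pullback_gr_Fm κ σ hσ hσp 1
  rw [pr_N hdim σ hσp hN hNinv (isInvertible_Fm κ 1), H27Prod.deg_congr k e, deg_pencil_pow hdim hg hgen κ hκ hκ2]
  norm_num

include hdim hg hgen hκ hκ2 hσ hσ1 hσp hN hNinv hND hNDinv in
/-- The diagonal plus the graph is linearly equivalent to the box of two pencils. -/
theorem nonempty_diag_graph (h2 : (2 : k) ≠ 0) :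
    Nonempty (CohB1.tensorMod ND N ≅ Fm (k := k) κ 1) := by
  obtain ⟨hP, hs, hi, hd⟩ := sq_props (k := k) (C := C) hdim
  haveI := hP; haveI := hs; haveI := hi
  haveI := H28Int.isNoetherian k (X := Sq k C)
  let q := C ↘ Spec (CommRingCat.of k)
  haveI : IsIntegral C := H8Props.DvrCurve.isIntegral_of_smooth_connected q
  haveI := H29RR.isNoetherian_of_proper (k := k) (X := C)
  haveI := isClosedImmersion_gr σ hσp
  haveI := isClosedImmersion_gr (k := k) (𝟙 C) (Category.id_comp q)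
  let γ := gr σ hσp
  let δ := gr (k := k) (𝟙 C) (Category.id_comp q)
  let F1 := Fm (k := k) κ 1
  have hF1 : PicF.IsInvertible F1 := isInvertible_Fm κ 1
  have hNDinv' : ClSub.IsInverseOf ND (ClSub.idealMod δ.ker) := hNDinv
  have pNF := pr_N_Fm_one hdim hg hgen κ hκ hκ2 σ hσ hσp hN hNinv
  have pDF := pr_N_Fm_one hdim hg hgen κ hκ hκ2 (𝟙 C) (Category.id_comp κ) (Category.id_comp q) hND hNDinv'
  have hcard := le_pr_graph_diag hdim hgen κ hκ hκ2 σ hσ hσ1 hσp hN hNinv hND hNDinv h2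
  have hprN := pr_N hdim σ hσp hN hNinv hND
  have hIγ := H28Int.isInvertible_idealMod_curve k hd γ hdim
  have hIδ := H28Int.isInvertible_idealMod_curve k hd δ hdim
  obtain ⟨eN⟩ := hNinv
  obtain ⟨eD⟩ := hNDinv'
  -- sections vanishing on the diagonal
  let M₁ := CohB1.tensorMod (ClSub.idealMod δ.ker) F1
  have hM₁ : PicF.IsInvertible M₁ := H11Ample.isInvertible_tensor hIδ hF1
  obtain ⟨hrd, hη⟩ := H29DoubleCover.residueDegree_of_finrank hdim κ hκ hκ2
  have hN' := fun x => (H28Neron.isNormalScheme_of_smooth q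
    (H29DoubleCover.isNormalScheme_spec_field k) x).2
  have h0L : ∀ r : ℕ, r ≤ g → Module.finrank k (Coh.HH C (CohB1.tensorPow (pencil κ) r) 0) = r + 1 := fun r hr =>
    H29DoubleCover.finrank_h0_pencil_pow κ hη hκ hN' (hκ2 _) hgen (by omega) (r := r) hr
  have hM1pos : 1 ≤ Module.finrank k (Coh.HH (Sq k C) M₁ 0) := by
    obtain ⟨S, hS, e₁, e₂, e₃⟩ := H28Surf.exists_restrict_seq k δ.ker hF1
    have hle := H28Surf.finrank_zero_le k hS (e₁ ▸ H11Ample.isCoh_tensor (H11Ample.isCoh_of_isInvertible hIδ) hF1)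
      (e₂ ▸ H11Ample.isCoh_tensor (H10Coh.isCoh_structureModule' _) hF1)
      (e₃ ▸ H11Ample.isCoh_tensor (H28Surf.isCoh_quot k _) hF1)
    haveI : (Coh.structureModule C).IsQuasicoherent := H10Coh.isQuasicoherent_unit
    haveI : ((Scheme.Modules.pullback δ).obj F1).IsQuasicoherent :=
      (H11Ample.isCoh_of_isInvertible (H11Ample.isInvertible_pullback δ hF1)).1
    obtain ⟨t⟩ := H10Coh.Tw.nonempty_push_tensor_iso δ (Coh.structureModule C) hF1
    obtain ⟨e⟩ := nonempty_pullback_gr_Fm (k := k) κ (𝟙 C) (Category.id_comp κ) (Category.id_comp q) 1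
    have h3 : Module.finrank k (Coh.HH (Sq k C) S.X₃ 0) = 3 := by
      rw [e₃, (H29RR.hhIso (k := k) (PicGrp.tensorModIso (H28Vert.quotModKerIso δ) (Iso.refl F1) ≪≫ t ≪≫
        (Coh.push δ).mapIso (H10Coh.Tw.leftUnitIso _)) 0).finrank_eq,
        H28Int.Push.finrank_HH_push k δ (gr_over _ _) _ 0, (H29RR.hhIso (k := k) e 0).finrank_eq, h0L 2 hg]
    have h4 : Module.finrank k (Coh.HH (Sq k C) S.X₂ 0) = 4 := by
      rw [e₂, (H29RR.hhIso (k := k) (H10Coh.Tw.leftUnitIso F1) 0).finrank_eq, finrank_Fm hdim κ]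
      simp [h0L 1 (by omega)]
    rw [h3, h4, e₁] at hle
    show 1 ≤ Module.finrank k (Coh.HH (Sq k C) (CohB1.tensorMod (ClSub.idealMod δ.ker) F1) 0)
    omega
  -- sections vanishing on the graph as well
  let M := CohB1.tensorMod (ClSub.idealMod γ.ker) M₁
  have hM : PicF.IsInvertible M := H11Ample.isInvertible_tensor hIγ hM₁
  have hMsec : Nontrivial (Coh.HH (Sq k C) M 0) := by
    obtain ⟨S, hS, e₁, e₂, e₃⟩ := H28Surf.exists_restrict_seq k γ.ker hM₁
    haveI : (Coh.structureModule C).IsQuasicoherent := H10Coh.isQuasicoherent_unit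
    have hA := H11Ample.isInvertible_pullback γ hM₁
    haveI := (H11Ample.isCoh_of_isInvertible hA).1
    obtain ⟨t⟩ := H10Coh.Tw.nonempty_push_tensor_iso γ (Coh.structureModule C) hM₁
    have hdeg : Curv2.deg k C ((Scheme.Modules.pullback γ).obj M₁) 1 < 0 := by
      obtain ⟨e⟩ := nonempty_pullback_gr_Fm (k := k) κ σ hσ hσp 1
      have hh := H27Prod.deg_congr k ((S11747.pullTensor γ ND (ClSub.idealMod δ.ker)).symm ≪≫
        (Scheme.Modules.pullback γ).mapIso eD ≪≫ H16Derived.KFlat.Stalk.structurePullbackIso γ)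
      rw [H27Prod.deg_tensor k hdim.le (H11Ample.isInvertible_pullback _ hND) (H11Ample.isInvertible_pullback _ hIδ),
        H27Prod.deg_structure, ← hprN] at hh
      rw [H27Prod.deg_congr k (S11747.pullTensor γ (ClSub.idealMod δ.ker) F1),
        H27Prod.deg_tensor k hdim.le (H11Ample.isInvertible_pullback _ hIδ) (H11Ample.isInvertible_pullback _ hF1),
        H27Prod.deg_congr k e, deg_pencil_pow hdim hg hgen κ hκ hκ2]
      push_cast
      omega
    have x₃ : Subsingleton (Coh.HH (Sq k C) S.X₃ 0) := by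
      haveI := H10Coh.finite_HH_proper k (Sq k C) _
        (e₃ ▸ H11Ample.isCoh_tensor (H28Surf.isCoh_quot k γ.ker) hM₁ : Coh.IsCoh S.X₃) 0
      haveI := H29RR.finite_HH (k := k) _ hA 0
      refine (Module.finrank_zero_iff (R := k)).1 ?_
      rw [e₃, (H29RR.hhIso (k := k) (PicGrp.tensorModIso (H28Vert.quotModKerIso γ) (Iso.refl M₁) ≪≫ t ≪≫
        (Coh.push γ).mapIso (H10Coh.Tw.leftUnitIso _)) 0).finrank_eq, H28Int.Push.finrank_HH_push k γ (gr_over _ _) _ 0]
      by_contra hne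
      have h := (H29RR.bounds_of_section (k := k) hdim.le hA
        (Module.nontrivial_of_finrank_pos (R := k) (Nat.pos_of_ne_zero hne))).1
      omega
    have h := finrank_zero_eq (k := k) hS (e₂ ▸ H11Ample.isCoh_tensor (H10Coh.isCoh_structureModule' _) hM₁) x₃
    rw [e₁, e₂, (H29RR.hhIso (k := k) (H10Coh.Tw.leftUnitIso M₁) 0).finrank_eq] at h
    exact Module.nontrivial_of_finrank_pos (R := k) (h ▸ hM1pos)
  -- the degree against an ample class
  have hzero : H28Surf.pr k M F1 = 0 := by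
    rw [H28Surf.pr_tensor_left k hd hIγ hM₁ hF1, H28Surf.pr_tensor_left k hd hIδ hF1 hF1,
      H28Surf.pr_inv_left k hd hN hIγ hF1 eN, H28Surf.pr_inv_left k hd hND hIδ hF1 eD, pNF, pDF,
      pr_Fm_one hdim hg hgen κ hκ hκ2]
    norm_num
  rcases H28RR.iso_structure_or_pos k hd (isAmple_Fm_one κ) hM hMsec with ⟨⟨e⟩⟩ | hpos
  · exact ⟨(H10Coh.Tw.rightUnitIso _).symm ≪≫ PicGrp.tensorModIso (Iso.refl _) e.symm ≪≫
      PicGrp.tensorModIso (H10Coh.Tw.commIso ND N) ((H10Coh.Tw.assoc _ _ F1).symm) ≪≫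
      (H10Coh.Tw.assoc _ _ F1).symm ≪≫
      PicGrp.tensorModIso (interchange _ _ _ _ ≪≫ PicGrp.tensorModIso eN eD ≪≫ H10Coh.Tw.leftUnitIso _) (Iso.refl F1) ≪≫
      H10Coh.Tw.leftUnitIso F1⟩
  · exact absurd hzero (ne_of_gt hpos)

include hdim hg hgen hκ hκ2 hσ hσ1 hσp hN hNinv hND hNDinv in
/-- The graph meets the diagonal with multiplicity `2g + 2`. -/
theorem pr_graph_diag (h2 : (2 : k) ≠ 0) : H28Surf.pr k N ND = 2 * (g : ℤ) + 2 := by
  obtain ⟨hP, hs, hi, hd⟩ := sq_props (k := k) (C := C) hdim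
  haveI := hP; haveI := hs; haveI := hi
  obtain ⟨e⟩ := nonempty_diag_graph hdim hg hgen κ hκ hκ2 σ hσ hσ1 hσp hN hNinv hND hNDinv h2
  have h := H28Surf.pr_congr_left k hN e
  rw [H28Surf.pr_tensor_left k hd hND hN hN, H28Surf.pr_symm k ND N, H28Surf.pr_symm k (Fm (k := k) κ 1) N,
    pr_N_Fm_one hdim hg hgen κ hκ hκ2 σ hσ hσp hN hNinv,
    pr_N hdim σ hσp hN hNinv hN, deg_gr_N hdim hg hgen κ hκ hκ2 σ hσ hσp hN hNinv] at h
  linarith

end Groth.Agent.H10Coh.HypSq
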