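import Groth.Agent.H10Coh.HypSq.Pairings
import Groth.Agent.S7870
import Groth.Agent.H13AlgSp.FibreCard
import Groth.Agent.H28Surf.ProperInter
import Groth.Agent.H17.CMInter.Inter
import Groth.Agent.H4Depth.Regular

/-!
# The graph of the involution meets the diagonal at least in the fixed points
-/

set_option autoImplicit false
set_option linter.style.haveILetI false
set_option linter.unusedSectionVars false
set_option backward.isDefEq.respectTransparency.types false

universe u

open CategoryTheory CategoryTheory.Limits AlgebraicGeometry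

namespace Groth.Agent.H10Coh.HypSq

variable {k : Type u} [Field k] [IsAlgClosed k] {C : Scheme.{u}} [C.Over (Spec (CommRingCat.of k))]
  [IsProper (C ↘ Spec (CommRingCat.of k))] [Smooth (C ↘ Spec (CommRingCat.of k))] [ConnectedSpace ↥C]
  (hdim : topologicalKrullDim ↥C = 1) {g : ℕ} (hgen : Curv2.genus k C = g)
  (κ : C ⟶ CohB1.ProjSpace 1 k) (hκ : κ ≫ CohB1.ProjSpace.toSpec 1 k = (C ↘ Spec (CommRingCat.of k)))
  [IsFinite κ] [Flat κ] (hκ2 : ∀ y : ↥(CohB1.ProjSpace 1 k), κ.finrank y = 2)
  (σ : C ⟶ C) (hσ : σ ≫ κ = κ) (hσ1 : σ ≠ 𝟙 C)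
  (hσp : σ ≫ (C ↘ Spec (CommRingCat.of k)) = (C ↘ Spec (CommRingCat.of k)))

attribute [local instance] overSq

/-- A finite proper scheme has at most as many points as functions. -/
theorem natCard_le_finrank_h0 (Z : Scheme.{u})
    [Z.Over (Spec (CommRingCat.of k))] [IsProper (Z ↘ Spec (CommRingCat.of k))] [Finite Z] :
    Nat.card Z ≤ Module.finrank k (Coh.HH Z (Coh.structureModule Z) 0) := by
  let f := Z ↘ Spec (CommRingCat.of k)
  letI := H22Alg.GlobalFunctions.algΓ f
  haveI : LocallyQuasiFinite f := locallyQuasiFinite_iff_finite_preimage_singleton.2 fun _ => Set.toFinite _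
  haveI : IsFinite f := (IsFinite.iff_isProper_and_locallyQuasiFinite f).2 ⟨inferInstance, inferInstance⟩
  haveI : IsAffine Z := isAffine_of_isAffineHom f
  haveI : Module.Finite k Γ(Z, ⊤) :=
    RingHom.Finite.comp (IsFinite.finite_app (f := f) ⊤ (isAffineOpen_top _))
      (RingHom.Finite.of_surjective _ (Scheme.ΓSpecIso (CommRingCat.of k)).symm.commRingCatIsoToRingEquiv.surjective)
  let e : Coh.HH Z (Coh.structureModule Z) 0 ≃ₗ[k] Γ(Z, ⊤) :=
    { H10Coh.HH0Equiv (Coh.structureModule Z) with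
      map_smul' := fun c x => (H10Coh.HH0Equiv_smul (Coh.structureModule Z)
        (f.appTop ((Scheme.ΓSpecIso (CommRingCat.of k)).inv c)) x).trans rfl }
  rw [e.finrank_eq, Nat.card_congr Z.isoSpec.hom.homeomorph.toEquiv]
  show Nat.card (PrimeSpectrum Γ(Z, ⊤)) ≤ _
  haveI : Finite (PrimeSpectrum Γ(Z, ⊤)) := Finite.of_equiv _ Z.isoSpec.hom.homeomorph.toEquiv
  have h := H13AlgSp.card_primeSpectrum_le_finrank k Γ(Z, ⊤)
  rw [ENat.card_eq_coe_natCard, Nat.cast_le] at h
  exact h

include hdim hgen hκ hκ2 hσ hσ1 hσp in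
/-- The involution has `2g + 2` fixed closed points. -/
theorem card_fixed (h2 : (2 : k) ≠ 0) :
    Nat.card {x : C // IsClosed ({x} : Set C) ∧ σ x = x} = 2 * g + 2 := by
  classical
  let p := C ↘ Spec (CommRingCat.of k)
  haveI : IsIntegral C := H8Props.DvrCurve.isIntegral_of_smooth_connected p
  haveI : GeometricallyConnected p := H19Grp.geometricallyConnected_of_connectedSpace p
  haveI : JacobsonSpace C := LocallyOfFiniteType.jacobsonSpace p
  haveI := H29RR.isNoetherian_of_proper (k := k) (X := C)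
  let P := CohB1.ProjSpace 1 k
  obtain ⟨hPi, -, hPd⟩ := H28Curve.projLine_facts k
  haveI := hPi
  letI := H29RR.PnPic.overSpec 1 k
  haveI : IsProper (CohB1.ProjSpace.toSpec 1 k) := H27Weil.isProper_toSpec 1 k
  haveI : IsProper (P ↘ Spec (CommRingCat.of k)) := ‹IsProper (CohB1.ProjSpace.toSpec 1 k)›
  haveI : Smooth (P ↘ Spec (CommRingCat.of k)) := inferInstanceAs (Smooth (CohB1.ProjSpace.toSpec 1 k))
  haveI := H29RR.isNoetherian_of_proper (k := k) (X := P)
  have hgP : Curv2.genus k P = 0 := H29DoubleCover.genus_projLine k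
  have hη := H29DoubleCover.apply_genericPoint hPd.le κ (H29DoubleCover.exists_ne_of_isFinite hdim κ)
  haveI : LocallyOfFinitePresentation κ := inferInstance
  have h2P : IsUnit (2 : Γ(P, ⊤)) := by
    rw [← map_ofNat (LeadFF.glob (CohB1.ProjSpace.toSpec 1 k)) 2]
    exact (isUnit_iff_ne_zero.2 h2).map _
  obtain ⟨τ, hτ, hττ, hq⟩ := S18900.result κ hκ2 h2P
  have h := H29DoubleCover.hurwitz_double κ h2 hdim hPd hκ hη hκ2
  rw [hgen, hgP] at h
  have hcard : Nat.card {x : C // IsClosed ({x} : Set C) ∧ τ.hom x = x} = 2 * g + 2 := by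
    rw [Nat.card_congr (Equiv.subtypeEquivRight
        fun x => and_congr_right fun _ => (S7870.fibre_eq_singleton_iff τ hττ κ hq x).symm)]
    omega
  have hτ1 : τ.hom ≠ 𝟙 C := by
    intro hid
    haveI : Finite {x : C // IsClosed ({x} : Set C) ∧ τ.hom x = x} := Nat.finite_of_card_ne_zero (by omega)
    have hfin : (closedPoints C).Finite := (Set.finite_range
      fun x : {x : C // IsClosed ({x} : Set C) ∧ τ.hom x = x} => x.1).subset fun x hx =>
        ⟨⟨x, mem_closedPoints_iff.1 hx, by rw [hid]; rfl⟩, rfl⟩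
    have hcl : IsClosed (closedPoints C) := by
      rw [← Set.biUnion_of_singleton (closedPoints C)]
      exact hfin.isClosed_biUnion fun x hx => hx
    have huniv : closedPoints C = Set.univ := hcl.closure_eq.symm.trans closure_closedPoints
    have hg' : IsClosed ({genericPoint C} : Set C) := (Set.eq_univ_iff_forall.1 huniv (genericPoint C) : _)
    have hu : ({genericPoint C} : Set C) = Set.univ := hg'.closure_eq.symm.trans (genericPoint_spec C).def
    haveI : Subsingleton C := ⟨fun a b => (Set.eq_univ_iff_forall.1 hu a).trans (Set.eq_univ_iff_forall.1 hu b).symm⟩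
    have h0 : topologicalKrullDim C ≤ 0 := topologicalKrullDim_zero_of_discreteTopology C
    rw [hdim] at h0
    exact absurd h0 (by norm_num)
  have heq : σ = τ.hom := H29DoubleCover.deck_unique p κ hκ2 σ τ.hom hσp
    (by show τ.hom ≫ p = p; rw [show p = κ ≫ CohB1.ProjSpace.toSpec 1 k from hκ.symm, ← Category.assoc, hτ])
    hσ hσ1 hτ hτ1
  rw [heq]
  exact hcard

variable {N : (Sq k C).Modules} (hN : PicF.IsInvertible N)
  (hNinv : ClSub.IsInverseOf N (ClSub.idealMod (gr σ hσp).ker))
  {ND : (Sq k C).Modules} (hND : PicF.IsInvertible ND)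
  (hNDinv : ClSub.IsInverseOf ND (ClSub.idealMod (pullback.diagonal (C ↘ Spec (CommRingCat.of k))).ker))

include hdim hgen hκ hκ2 hσ hσ1 hσp hN hNinv hND hNDinv in
/-- The graph meets the diagonal in at least `2g + 2` points. -/
theorem le_pr_graph_diag (h2 : (2 : k) ≠ 0) : 2 * (g : ℤ) + 2 ≤ H28Surf.pr k N ND := by
  obtain ⟨hP, hs, hi, hd⟩ := sq_props (k := k) (C := C) hdim
  haveI := hP; haveI := hs; haveI := hi
  haveI := H28Int.isNoetherian k (X := Sq k C)
  let q := C ↘ Spec (CommRingCat.of k)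
  haveI : IsIntegral C := H8Props.DvrCurve.isIntegral_of_smooth_connected q
  haveI := H29RR.isNoetherian_of_proper (k := k) (X := C)
  haveI := isClosedImmersion_gr σ hσp
  let γ := gr σ hσp
  let δ : C ⟶ Sq k C := pullback.diagonal q
  have δ1 : δ ≫ pullback.fst q q = 𝟙 C := pullback.lift_fst _ _ _
  have δ2 : δ ≫ pullback.snd q q = 𝟙 C := pullback.lift_snd _ _ _
  haveI : IsClosedImmersion δ := by
    haveI : IsClosedImmersion (δ ≫ pullback.fst q q) := by rw [δ1]; infer_instance
    exact IsClosedImmersion.of_comp δ (pullback.fst _ _)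
  let Z := pullback γ δ
  let j : Z ⟶ C := pullback.fst γ δ
  haveI : IsClosedImmersion j := MorphismProperty.pullback_fst _ _ inferInstance
  have hne : genericPoint C ∉ Set.range j := by
    rintro ⟨z, hz⟩
    have hall : Set.range j = Set.univ := Set.eq_univ_of_univ_subset ((genericPoint_spec C).def.ge.trans
      (closure_minimal (Set.singleton_subset_iff.2 ⟨z, hz⟩) j.isClosedEmbedding.isClosed_range))
    haveI : Surjective j := ⟨Set.range_eq_univ.1 hall⟩
    haveI : IsIso j := isIso_of_isClosedImmersion_of_surjective j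
    have hsnd : pullback.fst γ δ = pullback.snd γ δ := by
      have h := congrArg (· ≫ pullback.fst q q) (pullback.condition (f := γ) (g := δ))
      exact ((congrArg (pullback.fst γ δ ≫ ·) (gr_fst σ hσp)).trans (Category.comp_id _)).symm.trans
        ((Category.assoc _ _ _).symm.trans (h.trans ((Category.assoc _ _ _).trans
          ((congrArg (pullback.snd γ δ ≫ ·) δ1).trans (Category.comp_id _)))))
    have hσ' : pullback.fst γ δ ≫ σ = pullback.snd γ δ := by
      have h := congrArg (· ≫ pullback.snd q q) (pullback.condition (f := γ) (g := δ))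
      exact (congrArg (pullback.fst γ δ ≫ ·) (gr_snd σ hσp)).symm.trans
        ((Category.assoc _ _ _).symm.trans (h.trans ((Category.assoc _ _ _).trans
          ((congrArg (pullback.snd γ δ ≫ ·) δ2).trans (Category.comp_id _)))))
    apply hσ1
    rw [← cancel_epi j]
    show pullback.fst γ δ ≫ σ = pullback.fst γ δ ≫ 𝟙 C
    rw [hσ', Category.comp_id, hsnd]
  obtain ⟨hfinr, -⟩ := H25Par.finite_of_isClosed_of_notMem hdim.le j.isClosedEmbedding.isClosed_range hne
  haveI := hfinr.to_subtype
  haveI : Finite Z := Finite.of_injective (fun z => (⟨j z, z, rfl⟩ : Set.range j)) (fun a b hab =>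
      j.isClosedEmbedding.injective (congrArg Subtype.val hab))
  let i : Z ⟶ Sq k C := j ≫ γ
  letI : Z.Over (Spec (CommRingCat.of k)) := ⟨i ≫ (Sq k C ↘ Spec (CommRingCat.of k))⟩
  haveI : IsProper (Z ↘ Spec (CommRingCat.of k)) := inferInstanceAs (IsProper (i ≫ (Sq k C ↘ Spec (CommRingCat.of k))))
  have hfix : ∀ x : {x : C // IsClosed ({x} : Set C) ∧ σ x = x}, ∃ z : Z, j z = x.1 := by
    rintro ⟨x, hx, hσx⟩
    let t := (pointEquivClosedPoint q).symm ⟨x, hx⟩
    have ht : t.1 (IsLocalRing.closedPoint k) = x := congrArg Subtype.val ((pointEquivClosedPoint q).apply_symm_apply ⟨x, hx⟩)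
    have htσ : t.1 ≫ σ = t.1 := by
      have hsec : (t.1 ≫ σ) ≫ q = 𝟙 _ := by rw [Category.assoc, hσp, t.2]
      refine congrArg Subtype.val ((pointEquivClosedPoint q).injective (a₁ := ⟨t.1 ≫ σ, hsec⟩) (a₂ := t) (Subtype.ext ?_))
      show (t.1 ≫ σ) (IsLocalRing.closedPoint k) = t.1 (IsLocalRing.closedPoint k)
      rw [Scheme.Hom.comp_apply, ht, hσx]
    have hw : t.1 ≫ γ = t.1 ≫ δ := by
      apply pullback.hom_ext
      · rw [Category.assoc, Category.assoc, gr_fst, δ1]
      · rw [Category.assoc, Category.assoc, gr_snd, δ2, htσ, Category.comp_id]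
    refine ⟨pullback.lift t.1 t.1 hw (IsLocalRing.closedPoint k), ?_⟩
    show j (pullback.lift t.1 t.1 hw (IsLocalRing.closedPoint k)) = x
    rw [← Scheme.Hom.comp_apply]
    show (pullback.lift t.1 t.1 hw ≫ pullback.fst γ δ) (IsLocalRing.closedPoint k) = x
    rw [pullback.lift_fst, ht]
  choose zf hzf using hfix
  have hle : 2 * g + 2 ≤ Nat.card Z := by
    rw [← card_fixed hdim hgen κ hκ hκ2 σ hσ hσ1 hσp h2]
    exact Nat.card_le_card_of_injective zf fun a b hab => Subtype.ext (by rw [← hzf a, ← hzf b, hab])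
  have hIγ := H28Int.isInvertible_idealMod_curve k hd γ hdim
  have hIδ := H28Int.isInvertible_idealMod_curve k hd δ hdim
  have hker : i.ker = γ.ker ⊔ δ.ker := H17.CMInter.ker_fst_comp γ δ
  have hfin : ((γ.ker ⊔ δ.ker).support : Set (Sq k C)).Finite := by
    rw [← hker, Scheme.Hom.support_ker, i.isClosedEmbedding.isClosed_range.closure_eq]
    exact Set.finite_range _
  have hint := H28Surf.intNum_eq_finrank k (X := Sq k C) (fun W hW => by
      rw [irreducibleComponents_eq_singleton] at hW
      rw [hW]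
      exact (IsHomeomorph.topologicalKrullDim_eq _ (Homeomorph.Set.univ (Sq k C)).isHomeomorph).trans hd)
    (fun z => by
      haveI := H19Grp.isRegularLocalRing_stalk_of_smooth (Sq k C ↘ Spec (CommRingCat.of k)) z
      exact H4Depth.isCohenMacaulayLocalRing_of_regular _)
    γ.ker δ.ker ((S8914.result γ.ker).1 hIγ) ((S8914.result δ.ker).1 hIδ) hfin
  rw [H28Surf.intNum_eq_pr k hd hIγ hIδ, ← hker] at hint
  haveI : (Coh.structureModule Z).IsQuasicoherent := H10Coh.isQuasicoherent_unit
  rw [(H29RR.hhIso (k := k) (H28Vert.quotModKerIso i) 0).finrank_eq, H28Int.Push.finrank_HH_push k i rfl] at hint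
  obtain ⟨eN⟩ := hNinv
  obtain ⟨eD⟩ := hNDinv
  have h' := H28Surf.pr_inv_left k hd hIγ hN hND (H10Coh.Tw.commIso _ _ ≪≫ eN)
  have h'' : H28Surf.pr k (ClSub.idealMod γ.ker) ND = - H28Surf.pr k (ClSub.idealMod γ.ker) (ClSub.idealMod δ.ker) := by
    rw [H28Surf.pr_symm k (ClSub.idealMod γ.ker) ND,
      H28Surf.pr_inv_left k hd hIδ hND hIγ (H10Coh.Tw.commIso _ _ ≪≫ eD),
      H28Surf.pr_symm k (ClSub.idealMod δ.ker) (ClSub.idealMod γ.ker)]
  rw [h'', hint, neg_neg] at h'
  rw [h']
  exact_mod_cast le_trans hle (natCard_le_finrank_h0 (k := k) Z)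

end Groth.Agent.H10Coh.HypSq
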