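import Groth.Agent.H10Coh.HypSq.Involution
import Groth.Agent.H27HW.Core
import Groth.Agent.H22Alg.DegAmple
import Groth.Agent.H28Surf.Twist
import Groth.Agent.H25Par.FibKer

/-!
# The graph of the involution on the square of a hyperelliptic curve
-/

set_option autoImplicit false
set_option linter.style.haveILetI false
set_option linter.unusedSectionVars false
set_option backward.isDefEq.respectTransparency.types false

universe u

open CategoryTheory CategoryTheory.Limits AlgebraicGeometry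

namespace Groth.Agent.H10Coh.HypSq

variable {k : Type u} [Field k] [IsAlgClosed k] {C : Scheme.{u}} [C.Over (Spec (CommRingCat.of k))]
  [IsProper (C ↘ Spec (CommRingCat.of k))] [Smooth (C ↘ Spec (CommRingCat.of k))] [ConnectedSpace ↥C]
  (hdim : topologicalKrullDim ↥C = 1) {g : ℕ} (hg : 2 ≤ g) (hgen : Curv2.genus k C = g)
  (κ : C ⟶ CohB1.ProjSpace 1 k) (hκ : κ ≫ CohB1.ProjSpace.toSpec 1 k = (C ↘ Spec (CommRingCat.of k)))
  [IsFinite κ] [Flat κ] (hκ2 : ∀ y : ↥(CohB1.ProjSpace 1 k), κ.finrank y = 2)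
  (σ : C ⟶ C) (hσ : σ ≫ κ = κ) (hσ1 : σ ≠ 𝟙 C)
  (hσp : σ ≫ (C ↘ Spec (CommRingCat.of k)) = (C ↘ Spec (CommRingCat.of k)))

variable (k C) in
/-- The square of the curve. -/
noncomputable abbrev Sq : Scheme.{u} := pullback (C ↘ Spec (CommRingCat.of k)) (C ↘ Spec (CommRingCat.of k))

variable (k C) in
/-- The square of the curve over the field. -/
@[reducible] noncomputable def overSq : (Sq k C).Over (Spec (CommRingCat.of k)) :=
  ⟨pullback.fst (C ↘ Spec (CommRingCat.of k)) (C ↘ Spec (CommRingCat.of k)) ≫ (C ↘ Spec (CommRingCat.of k))⟩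

attribute [local instance] overSq

/-- The graph of the involution. -/
noncomputable abbrev gr : C ⟶ Sq k C :=
  pullback.lift (𝟙 C) σ ((Category.id_comp (C ↘ Spec (CommRingCat.of k))).trans hσp.symm)

/-- The module `p₁^* L^m ⊗ p₂^* L^m`. -/
noncomputable abbrev Fm (m : ℕ) : (Sq k C).Modules :=
  CohB1.tensorMod ((Scheme.Modules.pullback (pullback.fst (C ↘ Spec (CommRingCat.of k)) (C ↘ Spec (CommRingCat.of k)))).obj (CohB1.tensorPow (pencil κ) m))
    ((Scheme.Modules.pullback (pullback.snd (C ↘ Spec (CommRingCat.of k)) (C ↘ Spec (CommRingCat.of k)))).obj (CohB1.tensorPow (pencil κ) m))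

theorem gr_fst : gr σ hσp ≫ pullback.fst (C ↘ Spec (CommRingCat.of k)) (C ↘ Spec (CommRingCat.of k)) = 𝟙 C :=
  pullback.lift_fst _ _ _

theorem gr_snd : gr σ hσp ≫ pullback.snd (C ↘ Spec (CommRingCat.of k)) (C ↘ Spec (CommRingCat.of k)) = σ :=
  pullback.lift_snd _ _ _

theorem gr_over : gr σ hσp ≫ (Sq k C ↘ Spec (CommRingCat.of k)) = (C ↘ Spec (CommRingCat.of k)) := by
  show gr σ hσp ≫ pullback.fst _ _ ≫ _ = _
  rw [← Category.assoc, gr_fst, Category.id_comp]

theorem isClosedImmersion_gr : IsClosedImmersion (gr σ hσp) := by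
  haveI : IsClosedImmersion (gr σ hσp ≫ pullback.fst (C ↘ Spec (CommRingCat.of k)) (C ↘ Spec (CommRingCat.of k))) := by
    rw [gr_fst]; infer_instance
  exact IsClosedImmersion.of_comp (gr σ hσp) (pullback.fst _ _)

include hdim in
theorem sq_props : IsProper (Sq k C ↘ Spec (CommRingCat.of k)) ∧ Smooth (Sq k C ↘ Spec (CommRingCat.of k)) ∧
    IsIntegral (Sq k C) ∧ topologicalKrullDim (Sq k C) = 2 := by
  haveI : IsIntegral C := H8Props.DvrCurve.isIntegral_of_smooth_connected (C ↘ Spec (CommRingCat.of k))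
  have hC : Curve.IsSmoothProperCurve k C (C ↘ Spec (CommRingCat.of k)) := ⟨inferInstance, inferInstance, inferInstance, hdim⟩
  obtain ⟨a, b, c, d, -⟩ := H27Prod.product_props k hC hC
  exact ⟨a, b, c, d⟩

/-- Regrouping four factors. -/
noncomputable def interchange {X : Scheme.{u}} (a b c d : X.Modules) :
    CohB1.tensorMod (CohB1.tensorMod a b) (CohB1.tensorMod c d) ≅
      CohB1.tensorMod (CohB1.tensorMod a c) (CohB1.tensorMod b d) :=
  H10Coh.Tw.assoc a b _ ≪≫
    PicGrp.tensorModIso (Iso.refl a) ((H10Coh.Tw.assoc b c d).symm ≪≫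
      PicGrp.tensorModIso (H10Coh.Tw.commIso b c) (Iso.refl d) ≪≫ H10Coh.Tw.assoc c b d) ≪≫
    (H10Coh.Tw.assoc a c _).symm

include hσ in
/-- The pencil is fixed by the involution. -/
theorem nonempty_pullback_invol_pow (m : ℕ) :
    Nonempty ((Scheme.Modules.pullback σ).obj (CohB1.tensorPow (pencil κ) m) ≅ CohB1.tensorPow (pencil κ) m) := by
  obtain ⟨e⟩ := H11Ample.exists_iso_pullback_tensorPow σ (isInvertible_pencil κ) m
  exact ⟨e ≪≫ H10Coh.Tw.tensorPowIso ((Scheme.Modules.pullbackComp σ κ).app (Twist.twistProjSpace 1 k 1) ≪≫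
    eqToIso (by rw [hσ])) m⟩

include hσ in
/-- The restriction of `F_m` to the graph. -/
theorem nonempty_pullback_gr_Fm (m : ℕ) :
    Nonempty ((Scheme.Modules.pullback (gr σ hσp)).obj (Fm κ m) ≅ CohB1.tensorPow (pencil κ) (2 * m)) := by
  obtain ⟨e⟩ := nonempty_pullback_invol_pow κ σ hσ m
  obtain ⟨a⟩ := H22Alg.DegAmple.nonempty_tensorPow_add (pencil κ) m m
  exact ⟨S11747.pullTensor (gr σ hσp) _ _ ≪≫ PicGrp.tensorModIso
    ((Scheme.Modules.pullbackComp (gr σ hσp) (pullback.fst _ _)).app _ ≪≫ eqToIso (by rw [gr_fst]) ≪≫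
      (Scheme.Modules.pullbackId C).app _)
    ((Scheme.Modules.pullbackComp (gr σ hσp) (pullback.snd _ _)).app _ ≪≫ eqToIso (by rw [gr_snd]) ≪≫ e) ≪≫
    a ≪≫ eqToIso (by rw [two_mul])⟩

include hdim hg hgen hκ hκ2 hσ in
/-- The conormal module of the graph is the canonical module of the curve. -/
theorem nonempty_pullback_gr_ideal :
    PicF.IsInvertible (ClSub.idealMod (gr σ hσp).ker) ∧
    Nonempty ((Scheme.Modules.pullback (gr σ hσp)).obj (ClSub.idealMod (gr σ hσp).ker) ≅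
      CohB1.tensorPow (pencil κ) (g - 1)) := by
  obtain ⟨hp, hs, hi, hd⟩ := sq_props (k := k) (C := C) hdim
  haveI := hp; haveI := hs; haveI := hi
  haveI : IsIntegral C := H8Props.DvrCurve.isIntegral_of_smooth_connected (C ↘ Spec (CommRingCat.of k))
  haveI := isClosedImmersion_gr σ hσp
  let δ : C ⟶ Sq k C := pullback.diagonal (C ↘ Spec (CommRingCat.of k))
  have δ1 : δ ≫ pullback.fst _ _ = 𝟙 C := pullback.lift_fst _ _ _
  haveI : IsClosedImmersion δ := by
    haveI : IsClosedImmersion (δ ≫ pullback.fst (C ↘ Spec (CommRingCat.of k)) (C ↘ Spec (CommRingCat.of k))) := by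
      rw [δ1]; infer_instance
    exact IsClosedImmersion.of_comp δ (pullback.fst _ _)
  have hIγ := H28Int.isInvertible_idealMod_curve k hd (gr σ hσp) hdim
  have hIδ := H28Int.isInvertible_idealMod_curve k hd δ hdim
  refine ⟨hIγ, ?_⟩
  let φ : Sq k C ⟶ Sq k C := pullback.lift (pullback.fst _ _ ≫ σ) (pullback.snd _ _)
    (by rw [Category.assoc, hσp]; exact pullback.condition)
  have hpb : IsPullback (gr σ hσp) σ φ δ := H27HW.isPullback_graph (C ↘ Spec (CommRingCat.of k)) σ hσp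
  have hcomap : δ.ker.comap φ = (gr σ hσp).ker := by
    rw [← Scheme.IdealSheafData.ker_fst_of_isClosedImmersion δ φ,
      ← Scheme.Hom.ker_comp_of_isIso hpb.isoPullback.hom (pullback.fst φ δ), IsPullback.isoPullback_hom_fst]
  obtain ⟨eI⟩ := H12Pic.CurveFam.nonempty_pullback_idealMod_comap φ (I := δ.ker)
    ((S8914.result δ.ker).1 hIδ) (by rw [hcomap]; exact (S8914.result (gr σ hσp).ker).1 hIγ)
  rw [hcomap] at eI
  obtain ⟨eΩ⟩ := omega_iso hdim hg hgen κ hκ hκ2
  obtain ⟨e⟩ := nonempty_pullback_invol_pow κ σ hσ (g - 1)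
  exact ⟨(Scheme.Modules.pullback (gr σ hσp)).mapIso eI.symm ≪≫
    (Scheme.Modules.pullbackComp (gr σ hσp) φ).app _ ≪≫ eqToIso (by rw [hpb.w]) ≪≫
    ((Scheme.Modules.pullbackComp σ δ).app _).symm ≪≫
    (Scheme.Modules.pullback σ).mapIso (show (Scheme.Modules.pullback δ).obj (ClSub.idealMod δ.ker) ≅
      CohB1.tensorPow (pencil κ) (g - 1) from eΩ.symm) ≪≫ e⟩

variable {N : (Sq k C).Modules} (hN : PicF.IsInvertible N)
  (hNinv : ClSub.IsInverseOf N (ClSub.idealMod (gr σ hσp).ker))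

include hdim hg hgen hκ hκ2 hσ hN hNinv in
/-- Powers of the graph restricted to the graph. -/
theorem nonempty_pullback_gr_pow (r : ℕ) :
    Nonempty (CohB1.tensorMod ((Scheme.Modules.pullback (gr σ hσp)).obj (CohB1.tensorPow N r))
      (CohB1.tensorPow (pencil κ) ((g - 1) * r)) ≅ Coh.structureModule C) := by
  obtain ⟨eN⟩ := hNinv
  obtain ⟨-, ⟨eI⟩⟩ := nonempty_pullback_gr_ideal hdim hg hgen κ hκ hκ2 σ hσ hσp
  let u0 : CohB1.tensorMod ((Scheme.Modules.pullback (gr σ hσp)).obj N) (CohB1.tensorPow (pencil κ) (g - 1)) ≅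
      Coh.structureModule C :=
    PicGrp.tensorModIso (Iso.refl _) eI.symm ≪≫ (S11747.pullTensor (gr σ hσp) _ _).symm ≪≫
      (Scheme.Modules.pullback (gr σ hσp)).mapIso eN ≪≫ H16Derived.KFlat.Stalk.structurePullbackIso (gr σ hσp)
  induction r with
  | zero =>
    exact ⟨PicGrp.tensorModIso (H16Derived.KFlat.Stalk.structurePullbackIso (gr σ hσp)) (Iso.refl _) ≪≫
      H10Coh.Tw.leftUnitIso _ ≪≫ eqToIso (by rw [mul_zero]; rfl)⟩
  | succ r ih =>
    obtain ⟨e⟩ := ih
    obtain ⟨a⟩ := H22Alg.DegAmple.nonempty_tensorPow_add (pencil κ) ((g - 1) * r) (g - 1)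
    exact ⟨PicGrp.tensorModIso (S11747.pullTensor (gr σ hσp) _ _) (eqToIso (by rw [mul_add, mul_one]) ≪≫ a.symm) ≪≫
      interchange _ _ _ _ ≪≫ PicGrp.tensorModIso e u0 ≪≫ H10Coh.Tw.leftUnitIso _⟩

include hdim hg hgen hκ hκ2 hσ hN hNinv in
/-- Restriction of `F_m ⊗ N^r` to the graph, up to a power of the pencil. -/
theorem nonempty_twist_gr (m r : ℕ) :
    Nonempty (CohB1.tensorMod ((Scheme.Modules.pullback (gr σ hσp)).obj (CohB1.tensorMod (Fm κ m) (CohB1.tensorPow N r)))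
      (CohB1.tensorPow (pencil κ) ((g - 1) * r)) ≅ CohB1.tensorPow (pencil κ) (2 * m)) := by
  obtain ⟨e⟩ := nonempty_pullback_gr_pow hdim hg hgen κ hκ hκ2 σ hσ hσp hN hNinv r
  obtain ⟨f⟩ := nonempty_pullback_gr_Fm κ σ hσ hσp m
  exact ⟨PicGrp.tensorModIso (S11747.pullTensor (gr σ hσp) _ _) (Iso.refl _) ≪≫ H10Coh.Tw.assoc _ _ _ ≪≫
    PicGrp.tensorModIso f e ≪≫ H10Coh.Tw.rightUnitIso _⟩

include hdim hg hgen hκ hκ2 hσ hN hNinv in
/-- For nonnegative degree the restriction to the graph is a power of the pencil. -/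
theorem nonempty_twist_gr_eq (m r s : ℕ) (hs : (s : ℤ) = 2 * (m : ℤ) - ((g : ℤ) - 1) * r) :
    Nonempty ((Scheme.Modules.pullback (gr σ hσp)).obj (CohB1.tensorMod (Fm κ m) (CohB1.tensorPow N r)) ≅
      CohB1.tensorPow (pencil κ) s) := by
  obtain ⟨e⟩ := nonempty_twist_gr hdim hg hgen κ hκ hκ2 σ hσ hσp hN hNinv m r
  obtain ⟨v⟩ := nonempty_pullback_gr_pow hdim hg hgen κ hκ hκ2 σ hσ hσp hN hNinv r
  have h2 : 2 * m = s + (g - 1) * r := by
    have hc : (((g - 1) * r : ℕ) : ℤ) = ((g : ℤ) - 1) * r := by rw [Nat.cast_mul, Nat.cast_sub (by omega)]; rfl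
    omega
  obtain ⟨a⟩ := H22Alg.DegAmple.nonempty_tensorPow_add (pencil κ) s ((g - 1) * r)
  let T := CohB1.tensorPow (pencil κ) ((g - 1) * r)
  let A := (Scheme.Modules.pullback (gr σ hσp)).obj (CohB1.tensorPow N r)
  let v' : CohB1.tensorMod T A ≅ Coh.structureModule C := H10Coh.Tw.commIso T A ≪≫ v
  exact ⟨(H10Coh.Tw.rightUnitIso _).symm ≪≫ PicGrp.tensorModIso (Iso.refl _) v'.symm ≪≫
    (H10Coh.Tw.assoc _ T A).symm ≪≫ PicGrp.tensorModIso (e ≪≫ eqToIso (by rw [h2]) ≪≫ a.symm) (Iso.refl A) ≪≫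
    H10Coh.Tw.assoc _ T A ≪≫ PicGrp.tensorModIso (Iso.refl _) v' ≪≫ H10Coh.Tw.rightUnitIso _⟩

include hdim hg hgen hκ hκ2 hσ hN hNinv in
/-- The degree of the restriction to the graph. -/
theorem deg_twist_gr (m r : ℕ) :
    Curv2.deg k C ((Scheme.Modules.pullback (gr σ hσp)).obj (CohB1.tensorMod (Fm κ m) (CohB1.tensorPow N r))) 1 =
      4 * (m : ℤ) - 2 * ((g : ℤ) - 1) * r := by
  haveI : IsIntegral C := H8Props.DvrCurve.isIntegral_of_smooth_connected (C ↘ Spec (CommRingCat.of k))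
  obtain ⟨e⟩ := nonempty_twist_gr hdim hg hgen κ hκ hκ2 σ hσ hσp hN hNinv m r
  have hL := isInvertible_pencil (k := k) κ
  have hA : PicF.IsInvertible ((Scheme.Modules.pullback (gr σ hσp)).obj (CohB1.tensorMod (Fm κ m) (CohB1.tensorPow N r))) :=
    H11Ample.isInvertible_pullback _ (H11Ample.isInvertible_tensor
      (H11Ample.isInvertible_tensor (H11Ample.isInvertible_pullback _ (H11Ample.isInvertible_tensorPow hL m))
        (H11Ample.isInvertible_pullback _ (H11Ample.isInvertible_tensorPow hL m))) (H11Ample.isInvertible_tensorPow hN r))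
  have h := H27Prod.deg_congr k e
  rw [H27Prod.deg_tensor k hdim.le hA (H11Ample.isInvertible_tensorPow hL _),
    deg_pencil_pow hdim hg hgen κ hκ hκ2, deg_pencil_pow hdim hg hgen κ hκ hκ2] at h
  have hc : (((g - 1) * r : ℕ) : ℤ) = ((g : ℤ) - 1) * r := by rw [Nat.cast_mul, Nat.cast_sub (by omega)]; rfl
  rw [hc] at h
  push_cast at h
  linarith

end Groth.Agent.H10Coh.HypSq
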