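import Groth.Agent.S7842
import Groth.Agent.H10Coh.HypSq.Curve
import Groth.Agent.H29DoubleCover.Swap
import Groth.Agent.H19Grp.AlgClosedGeom

/-!
# The involution of a hyperelliptic curve and its canonical module
-/

set_option autoImplicit false
set_option linter.style.haveILetI false
set_option linter.unusedSectionVars false
set_option backward.isDefEq.respectTransparency.types false

universe u

open CategoryTheory CategoryTheory.Limits AlgebraicGeometry

namespace Groth.Agent.H10Coh.HypSq

variable {k : Type u} [Field k] [IsAlgClosed k] {C : Scheme.{u}} [C.Over (Spec (CommRingCat.of k))]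
  [IsProper (C ↘ Spec (CommRingCat.of k))] [Smooth (C ↘ Spec (CommRingCat.of k))] [ConnectedSpace ↥C]
  (hdim : topologicalKrullDim ↥C = 1) {g : ℕ} (hg : 2 ≤ g) (hgen : Curv2.genus k C = g)
  (κ : C ⟶ CohB1.ProjSpace 1 k) (hκ : κ ≫ CohB1.ProjSpace.toSpec 1 k = (C ↘ Spec (CommRingCat.of k)))
  [IsFinite κ] [Flat κ] (hκ2 : ∀ y : ↥(CohB1.ProjSpace 1 k), κ.finrank y = 2)

include hdim hg hgen hκ hκ2 in
/-- The canonical module is a power of the pencil. -/
theorem omega_iso :
    Nonempty (CohB1.tensorPow (pencil κ) (g - 1) ≅ Omega.sheaf (C ↘ Spec (CommRingCat.of k))) := by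
  haveI : IsIntegral C := H8Props.DvrCurve.isIntegral_of_smooth_connected (C ↘ Spec (CommRingCat.of k))
  haveI : GeometricallyConnected (C ↘ Spec (CommRingCat.of k)) := H19Grp.geometricallyConnected_of_connectedSpace _
  obtain ⟨hrd, hη⟩ := H29DoubleCover.residueDegree_of_finrank hdim κ hκ hκ2
  have hs : letI := (κ.residueFieldMap (genericPoint C)).hom.toAlgebra
      Algebra.IsSeparable ((CohB1.ProjSpace 1 k).residueField (κ (genericPoint C))) (C.residueField (genericPoint C)) := by
    by_contra hs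
    have := H29DoubleCover.genus_eq_zero_of_inseparable (k := k) hdim κ hκ hη hrd hs
    omega
  obtain ⟨-, V, hV, hE⟩ := H29DoubleCover.rank_and_etale (k := k) κ hdim hκ hη hrd hs
  haveI := hE
  exact S7842.result k (C ↘ Spec (CommRingCat.of k)) hdim g hg hgen κ hκ hκ2 V hV

variable (σ : C ⟶ C) (hσ : σ ≫ κ = κ) (hσ1 : σ ≠ 𝟙 C)
  (hσp : σ ≫ (C ↘ Spec (CommRingCat.of k)) = (C ↘ Spec (CommRingCat.of k)))

include hdim hκ2 hσ hσ1 hσp hκ in
/-- The involution squares to the identity. -/
theorem invol_sq : σ ≫ σ = 𝟙 C := by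
  haveI : IsIntegral C := H8Props.DvrCurve.isIntegral_of_smooth_connected (C ↘ Spec (CommRingCat.of k))
  haveI : JacobsonSpace C := LocallyOfFiniteType.jacobsonSpace (C ↘ Spec (CommRingCat.of k))
  by_contra hne
  have h2 : σ ≫ σ = σ := H29DoubleCover.deck_unique (C ↘ Spec (CommRingCat.of k)) κ hκ2 (σ ≫ σ) σ
    (by rw [Category.assoc, hσp, hσp]) hσp (by rw [Category.assoc, hσ, hσ]) hne hσ hσ1
  haveI : IsFinite (σ ≫ κ) := by rw [hσ]; infer_instance
  haveI : IsFinite σ := IsFinite.of_comp σ κ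
  have hgen' := H29DoubleCover.apply_genericPoint hdim.le σ (H29DoubleCover.exists_ne_of_isFinite hdim σ)
  haveI : IsDominant σ := ⟨(dense_iff_closure_eq).2 (Set.eq_univ_of_univ_subset (by
    rw [← (genericPoint_spec C).def, ← hgen']
    exact closure_mono (Set.singleton_subset_iff.2 ⟨_, rfl⟩)))⟩
  haveI : IsSeparated (C ↘ Spec (CommRingCat.of k)) := inferInstance
  exact hσ1 (ext_of_isDominant_of_isSeparated (C ↘ Spec (CommRingCat.of k)) (by rw [hσp, Category.id_comp]) σ
    (by rw [h2, Category.comp_id]))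

end Groth.Agent.H10Coh.HypSq
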