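import Groth.Agent.H10Coh.HypSq.Classes

/-!
# Intersection numbers on the square of a hyperelliptic curve
-/

set_option autoImplicit false
set_option linter.style.haveILetI false
set_option linter.unusedSectionVars false
set_option backward.isDefEq.respectTransparency.types false

universe u

open CategoryTheory CategoryTheory.Limits AlgebraicGeometry

namespace Groth.Agent.H10Coh.HypSq

variable {k : Type u} [Field k] [IsAlgClosed k] {C : Scheme.{u}} [C.Over (Spec (CommRingCat.of k))]
  [IsProper (C ↘ Spec (CommRingCat.of k))] [Smooth (C ↘ Spec (CommRingCat.of k))] [ConnectedSpace ↥C]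
  (hdim : topologicalKrullDim ↥C = 1) {g : ℕ} (hgen : Curv2.genus k C = g)

attribute [local instance] overSq

include hdim in
/-- A class inverse to a rational point has degree one. -/
theorem deg_point_inverse (x : Spec (CommRingCat.of k) ⟶ C) (hx : x ≫ (C ↘ Spec (CommRingCat.of k)) = 𝟙 _)
    {A : C.Modules} (hA : ClSub.IsInverseOf A (ClSub.idealMod x.ker)) : Curv2.deg k C A 1 = 1 := by
  haveI : IsIntegral C := H8Props.DvrCurve.isIntegral_of_smooth_connected (C ↘ Spec (CommRingCat.of k))
  obtain ⟨F, -, -, ⟨eF⟩, hd⟩ := H27Prod.exists_point_class k ⟨inferInstance, inferInstance, inferInstance, hdim⟩ x hx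
  obtain ⟨eA⟩ := hA
  rw [← hd]
  exact H27Prod.deg_congr k ((H10Coh.Tw.rightUnitIso A).symm ≪≫ PicGrp.tensorModIso (Iso.refl A) eF.symm ≪≫
    (H10Coh.Tw.assoc A _ F).symm ≪≫ PicGrp.tensorModIso eA (Iso.refl F) ≪≫ H10Coh.Tw.leftUnitIso F)

include hdim hgen in
/-- The Euler characteristic of an invertible module on the curve. -/
theorem euler_curve (L : C.Modules) : Curv2.euler k C L = Curv2.deg k C L 1 + 1 - g := by
  haveI : IsIntegral C := H8Props.DvrCurve.isIntegral_of_smooth_connected (C ↘ Spec (CommRingCat.of k))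
  have h := H29RR.riemann_roch (k := k) hdim.le L
  rw [H29RR.finrank_h0_structure k C, hgen, ← H29RR.euler_eq_sub (k := k) hdim.le] at h
  rw [h]
  push_cast
  ring

/-- The first projection of an exterior product with trivial second factor. -/
noncomputable def fstIso (L : C.Modules) : Bx k L (Coh.structureModule C) ≅
    (Scheme.Modules.pullback (pullback.fst (C ↘ Spec (CommRingCat.of k)) (C ↘ Spec (CommRingCat.of k)))).obj L :=
  PicGrp.tensorModIso (Iso.refl _) (H16Derived.KFlat.Stalk.structurePullbackIso _) ≪≫ H10Coh.Tw.rightUnitIso _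

/-- The second projection of an exterior product with trivial first factor. -/
noncomputable def sndIso (L : C.Modules) : Bx k (Coh.structureModule C) L ≅
    (Scheme.Modules.pullback (pullback.snd (C ↘ Spec (CommRingCat.of k)) (C ↘ Spec (CommRingCat.of k)))).obj L :=
  PicGrp.tensorModIso (H16Derived.KFlat.Stalk.structurePullbackIso _) (Iso.refl _) ≪≫ H10Coh.Tw.leftUnitIso _

include hdim hgen in
/-- Intersection of two fibres of the first projection. -/
theorem pr_fst_fst {L : C.Modules} (hL : PicF.IsInvertible L) :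
    H28Surf.pr k ((Scheme.Modules.pullback (pullback.fst (C ↘ Spec (CommRingCat.of k)) (C ↘ Spec (CommRingCat.of k)))).obj L)
      ((Scheme.Modules.pullback (pullback.fst (C ↘ Spec (CommRingCat.of k)) (C ↘ Spec (CommRingCat.of k)))).obj L) = 0 := by
  haveI := H29RR.isNoetherian_of_proper (k := k) (X := C)
  let P := (Scheme.Modules.pullback (pullback.fst (C ↘ Spec (CommRingCat.of k)) (C ↘ Spec (CommRingCat.of k)))).obj L
  let O := Coh.structureModule C
  have hO : PicF.IsInvertible O := H28Int.isInvertible_structureModule C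
  show (Curv2.euler k _ (Coh.structureModule (Sq k C)) - Curv2.euler k _ (CohB1.tensorMod P _)) -
    (Curv2.euler k _ (CohB1.tensorMod P (Coh.structureModule (Sq k C))) -
      Curv2.euler k _ (CohB1.tensorMod P (CohB1.tensorMod P (Coh.structureModule (Sq k C))))) = 0
  rw [H25Euler.euler_congr (H10Coh.Tw.rightUnitIso P ≪≫ (fstIso L).symm),
    H25Euler.euler_congr (PicGrp.tensorModIso (Iso.refl P) (H10Coh.Tw.rightUnitIso P) ≪≫
      (S11747.pullTensor _ L L).symm ≪≫ (fstIso (CohB1.tensorMod L L)).symm),
    H25Euler.euler_congr ((H16Derived.KFlat.Stalk.structurePullbackIso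
      (pullback.fst (C ↘ Spec (CommRingCat.of k)) (C ↘ Spec (CommRingCat.of k)))).symm ≪≫ (fstIso O).symm),
    euler_Bx hdim hL hO, euler_Bx hdim (H11Ample.isInvertible_tensor hL hL) hO, euler_Bx hdim hO hO,
    euler_curve hdim hgen, euler_curve hdim hgen L, euler_curve hdim hgen (CohB1.tensorMod L L),
    H27Prod.deg_tensor k hdim.le hL hL, H27Prod.deg_structure]
  ring

include hdim hgen in
/-- Intersection of fibres of the two projections. -/
theorem pr_fst_snd {L : C.Modules} (hL : PicF.IsInvertible L) :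
    H28Surf.pr k ((Scheme.Modules.pullback (pullback.fst (C ↘ Spec (CommRingCat.of k)) (C ↘ Spec (CommRingCat.of k)))).obj L)
      ((Scheme.Modules.pullback (pullback.snd (C ↘ Spec (CommRingCat.of k)) (C ↘ Spec (CommRingCat.of k)))).obj L) =
      Curv2.deg k C L 1 ^ 2 := by
  haveI := H29RR.isNoetherian_of_proper (k := k) (X := C)
  let P := (Scheme.Modules.pullback (pullback.fst (C ↘ Spec (CommRingCat.of k)) (C ↘ Spec (CommRingCat.of k)))).obj L
  let Q := (Scheme.Modules.pullback (pullback.snd (C ↘ Spec (CommRingCat.of k)) (C ↘ Spec (CommRingCat.of k)))).obj L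
  let O := Coh.structureModule C
  have hO : PicF.IsInvertible O := H28Int.isInvertible_structureModule C
  show (Curv2.euler k _ (Coh.structureModule (Sq k C)) - Curv2.euler k _ (CohB1.tensorMod Q _)) -
    (Curv2.euler k _ (CohB1.tensorMod P (Coh.structureModule (Sq k C))) -
      Curv2.euler k _ (CohB1.tensorMod Q (CohB1.tensorMod P (Coh.structureModule (Sq k C))))) = _
  rw [H25Euler.euler_congr (H10Coh.Tw.rightUnitIso P ≪≫ (fstIso L).symm),
    H25Euler.euler_congr (H10Coh.Tw.rightUnitIso Q ≪≫ (sndIso L).symm),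
    H25Euler.euler_congr (PicGrp.tensorModIso (Iso.refl Q) (H10Coh.Tw.rightUnitIso P) ≪≫
      (H10Coh.Tw.commIso Q P : _ ≅ Bx k L L)),
    H25Euler.euler_congr ((H16Derived.KFlat.Stalk.structurePullbackIso
      (pullback.fst (C ↘ Spec (CommRingCat.of k)) (C ↘ Spec (CommRingCat.of k)))).symm ≪≫ (fstIso O).symm),
    euler_Bx hdim hL hO, euler_Bx hdim hO hL, euler_Bx hdim hL hL, euler_Bx hdim hO hO,
    euler_curve hdim hgen, euler_curve hdim hgen L, H27Prod.deg_structure]
  ring

include hdim hgen in
/-- The degree of the diagonal on itself. -/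
theorem deg_diag_N {ND : (Sq k C).Modules} (hND : PicF.IsInvertible ND)
    (hNDinv : ClSub.IsInverseOf ND (ClSub.idealMod (pullback.diagonal (C ↘ Spec (CommRingCat.of k))).ker)) :
    Curv2.deg k C ((Scheme.Modules.pullback (pullback.diagonal (C ↘ Spec (CommRingCat.of k)))).obj ND) 1 = 2 - 2 * (g : ℤ) := by
  haveI : IsIntegral C := H8Props.DvrCurve.isIntegral_of_smooth_connected (C ↘ Spec (CommRingCat.of k))
  haveI := H29RR.isNoetherian_of_proper (k := k) (X := C)
  obtain ⟨eN⟩ := hNDinv
  let δ : C ⟶ Sq k C := pullback.diagonal (C ↘ Spec (CommRingCat.of k))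
  have hΩ : Curv2.deg k C (Omega.sheaf (C ↘ Spec (CommRingCat.of k))) 1 = 2 * (g : ℤ) - 2 := by
    rw [H29CurveDual.deg_omega_of_h0 hdim (H29RR.finrank_h0_structure k C), hgen]
  have hΩi : PicF.IsInvertible (Omega.sheaf (C ↘ Spec (CommRingCat.of k))) :=
    H29CurveDual.isInvertible_omega_curve (k := k) hdim
  have h := H27Prod.deg_congr k ((S11747.pullTensor δ ND (ClSub.idealMod δ.ker)).symm ≪≫
    (Scheme.Modules.pullback δ).mapIso eN ≪≫ H16Derived.KFlat.Stalk.structurePullbackIso δ)
  rw [H27Prod.deg_structure] at h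
  have h' : Curv2.deg k C ((Scheme.Modules.pullback δ).obj ND) 1 +
      Curv2.deg k C (Omega.sheaf (C ↘ Spec (CommRingCat.of k))) 1 = 0 :=
    (H27Prod.deg_tensor k hdim.le (H11Ample.isInvertible_pullback δ hND) hΩi).symm.trans h
  linarith

end Groth.Agent.H10Coh.HypSq
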