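import Groth.Agent.H10Coh.HypSq.Seq

/-!
# Cohomology of `mF + rΓ` on the square of a hyperelliptic curve
-/

set_option autoImplicit false
set_option linter.style.haveILetI false
set_option linter.unusedSectionVars false
set_option backward.isDefEq.respectTransparency.types false

universe u

open CategoryTheory CategoryTheory.Limits AlgebraicGeometry

namespace Groth.Agent.H10Coh.HypSq

variable {k : Type u} [Field k] [IsAlgClosed k] {C : Scheme.{u}} [C.Over (Spec (CommRingCat.of k))]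
  [IsProper (C ↘ Spec (CommRingCat.of k))] [Smooth (C ↘ Spec (CommRingCat.of k))] [ConnectedSpace ↥C]
  (hdim : topologicalKrullDim ↥C = 1) {g : ℕ} (hg : 2 ≤ g) (hgen : Curv2.genus k C = g)
  (κ : C ⟶ CohB1.ProjSpace 1 k) (hκ : κ ≫ CohB1.ProjSpace.toSpec 1 k = (C ↘ Spec (CommRingCat.of k)))
  [IsFinite κ] [Flat κ] (hκ2 : ∀ y : ↥(CohB1.ProjSpace 1 k), κ.finrank y = 2)
  (σ : C ⟶ C) (hσ : σ ≫ κ = κ)
  (hσp : σ ≫ (C ↘ Spec (CommRingCat.of k)) = (C ↘ Spec (CommRingCat.of k)))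
  {N : (Sq k C).Modules} (hN : PicF.IsInvertible N)
  (hNinv : ClSub.IsInverseOf N (ClSub.idealMod (gr σ hσp).ker))

attribute [local instance] overSq

include hdim hg hgen hκ hκ2 in
/-- The numbers for `F_m`. -/
theorem base_numbers (m : ℕ) : ∀ (N : (Sq k C).Modules),
    Curv2.euler k (Sq k C) (Mr κ N m 0) = (2 * (m : ℤ) - ((g : ℤ) - 1)) ^ 2 ∧
      (g ≤ m → Subsingleton (Coh.HH (Sq k C) (Mr κ N m 0) 1) ∧ Subsingleton (Coh.HH (Sq k C) (Mr κ N m 0) 2)) := by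
  intro N
  obtain ⟨hP, -, -, -⟩ := sq_props (k := k) (C := C) hdim
  haveI := hP
  haveI := H28Int.isNoetherian k (X := Sq k C)
  haveI : IsLocallyNoetherian C := LocallyOfFiniteType.isLocallyNoetherian (C ↘ Spec (CommRingCat.of k))
  let e : Mr κ N m 0 ≅ Fm κ m := H10Coh.Tw.rightUnitIso _
  have hc := H11Ample.isCoh_of_isInvertible (isInvertible_Fm (k := k) κ m)
  refine ⟨?_, fun hm => ?_⟩
  · rw [H25Euler.euler_congr e, euler_sq hdim hc.1, finrank_Fm hdim κ, finrank_Fm hdim κ, finrank_Fm hdim κ]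
    have h := h0_sub_h1_pow hdim hg hgen κ hκ hκ2 m
    simp only [Fin.sum_univ_succ, Fin.sum_univ_zero, Fin.val_zero, Fin.val_succ, h2_pow hdim κ m 2 one_lt_two,
      zero_add, add_zero, Nat.sub_zero, mul_zero, zero_mul]
    norm_num
    rw [show (2 : ℤ) * m - ((g : ℤ) - 1) = 2 * (m : ℤ) + 1 - g by ring, ← h]
    ring
  · haveI := h1_pencil_pow hdim hg hgen κ hκ hκ2 m hm
    have h1 : Module.finrank k (Coh.HH C (CohB1.tensorPow (pencil κ) m) 1) = 0 := Module.finrank_zero_of_subsingleton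
    haveI := H10Coh.finite_HH_proper k (Sq k C) _ hc 1
    haveI := H10Coh.finite_HH_proper k (Sq k C) _ hc 2
    have z1 : Module.finrank k (Coh.HH (Sq k C) (Fm κ m) 1) = 0 := by
      rw [finrank_Fm hdim κ]
      simp [Fin.sum_univ_succ, h1]
    have z2 : Module.finrank k (Coh.HH (Sq k C) (Fm κ m) 2) = 0 := by
      rw [finrank_Fm hdim κ]
      simp [Fin.sum_univ_succ, h1, h2_pow hdim κ m 2 one_lt_two]
    haveI := (Module.finrank_zero_iff (R := k)).1 z1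
    haveI := (Module.finrank_zero_iff (R := k)).1 z2
    exact ⟨(H29RR.hhIso (k := k) e 1).toEquiv.subsingleton, (H29RR.hhIso (k := k) e 2).toEquiv.subsingleton⟩

include hdim hN hσ hg hgen hκ hκ2 hNinv in
/-- The Euler characteristic of the restriction to the graph. -/
theorem euler_gr (m r : ℕ) :
    Curv2.euler k C ((Scheme.Modules.pullback (gr σ hσp)).obj (Mr κ N m r)) =
      4 * (m : ℤ) - 2 * ((g : ℤ) - 1) * r + 1 - g := by
  haveI : IsIntegral C := H8Props.DvrCurve.isIntegral_of_smooth_connected (C ↘ Spec (CommRingCat.of k))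
  have h := H29RR.riemann_roch (k := k) hdim.le ((Scheme.Modules.pullback (gr σ hσp)).obj (Mr κ N m r))
  rw [deg_twist_gr hdim hg hgen κ hκ hκ2 σ hσ hσp hN hNinv, H29RR.finrank_h0_structure k C, hgen] at h
  rw [H29RR.euler_eq_sub (k := k) hdim.le, h]
  push_cast
  ring

include hdim hg hgen hκ hκ2 hσ hN hNinv in
theorem euler_Mr (m : ℕ) : ∀ r : ℕ, Curv2.euler k (Sq k C) (Mr κ N m r) =
    (2 * (m : ℤ) - ((g : ℤ) - 1)) ^ 2 + 4 * (m : ℤ) * r - ((g : ℤ) - 1) * r * (r + 2)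
  | 0 => by
    rw [(base_numbers hdim hg hgen κ hκ hκ2 m N).1]
    push_cast
    ring
  | r + 1 => by
    obtain ⟨hP, -, -, -⟩ := sq_props (k := k) (C := C) hdim
    haveI := hP
    obtain ⟨S, hS, c₁, c₂, c₃, ⟨i₁⟩, ⟨i₂⟩, h₃⟩ := exists_gseq hdim κ σ hσp hN hNinv m r
    have h := H25Euler.euler_add (k := k) hS c₁ c₂ c₃
    have h3 : Curv2.euler k (Sq k C) S.X₃ = Curv2.euler k C ((Scheme.Modules.pullback (gr σ hσp)).obj (Mr κ N m (r + 1))) :=
      finsum_congr fun n => by rw [h₃ n]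
    rw [H25Euler.euler_congr i₁, H25Euler.euler_congr i₂, h3, euler_Mr m r,
      euler_gr hdim hg hgen κ hκ hκ2 σ hσ hσp hN hNinv] at h
    rw [h]
    push_cast
    ring

include hdim hg hgen hκ hκ2 hσ hN hNinv in
theorem h2_Mr (m : ℕ) (hm : g ≤ m) : ∀ r : ℕ, Subsingleton (Coh.HH (Sq k C) (Mr κ N m r) 2)
  | 0 => ((base_numbers hdim hg hgen κ hκ hκ2 m N).2 hm).2
  | r + 1 => by
    obtain ⟨hP, hs, hi, -⟩ := sq_props (k := k) (C := C) hdim
    haveI := hP; haveI := hs; haveI := hi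
    obtain ⟨S, hS, c₁, c₂, c₃, ⟨i₁⟩, ⟨i₂⟩, h₃⟩ := exists_gseq hdim κ σ hσp hN hNinv m r
    haveI := H10Coh.finite_HH_proper k (Sq k C) _ c₃ 2
    haveI := h2_Mr m hm r
    have x₁ : Subsingleton (Coh.HH (Sq k C) S.X₁ 2) := (H29RR.hhIso (k := k) i₁ 2).toEquiv.subsingleton
    haveI : IsLocallyNoetherian C := LocallyOfFiniteType.isLocallyNoetherian (C ↘ Spec (CommRingCat.of k))
    haveI := h_above_one (k := k) hdim (H11Ample.isCoh_of_isInvertible (H11Ample.isInvertible_pullback (gr σ hσp)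
      (H11Ample.isInvertible_tensor (isInvertible_Fm κ m) (H11Ample.isInvertible_tensorPow hN (r + 1))))).1 2 one_lt_two
    have x₃ : Subsingleton (Coh.HH (Sq k C) S.X₃ 2) :=
      (Module.finrank_zero_iff (R := k)).1 ((h₃ 2).trans Module.finrank_zero_of_subsingleton)
    haveI := H28Surf.subsingleton_HH_ext k hS 2 x₁ x₃
    exact (H29RR.hhIso (k := k) i₂ 2).symm.toEquiv.subsingleton

include hdim hg hgen hκ hκ2 hσ hN hNinv in
theorem h1_Mr (m : ℕ) (hm : g ≤ m) : ∀ r : ℕ, ((g : ℤ) - 1) * (r + 1) < 2 * m →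
    Subsingleton (Coh.HH (Sq k C) (Mr κ N m r) 1)
  | 0, _ => ((base_numbers hdim hg hgen κ hκ hκ2 m N).2 hm).1
  | r + 1, hr => by
    obtain ⟨hP, hs, hi, -⟩ := sq_props (k := k) (C := C) hdim
    haveI := hP; haveI := hs; haveI := hi
    haveI : IsIntegral C := H8Props.DvrCurve.isIntegral_of_smooth_connected (C ↘ Spec (CommRingCat.of k))
    obtain ⟨S, hS, c₁, c₂, c₃, ⟨i₁⟩, ⟨i₂⟩, h₃⟩ := exists_gseq hdim κ σ hσp hN hNinv m r
    haveI := H10Coh.finite_HH_proper k (Sq k C) _ c₃ 1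
    haveI := h1_Mr m hm r (by push_cast at hr ⊢; nlinarith)
    have x₁ : Subsingleton (Coh.HH (Sq k C) S.X₁ 1) := (H29RR.hhIso (k := k) i₁ 1).toEquiv.subsingleton
    haveI := H29RR.h1_vanish_of_deg (k := k) hdim.le (H29RR.finrank_h0_structure k C)
      (H11Ample.isInvertible_pullback (gr σ hσp)
        (H11Ample.isInvertible_tensor (isInvertible_Fm κ m) (H11Ample.isInvertible_tensorPow hN (r + 1))))
      (by rw [deg_twist_gr hdim hg hgen κ hκ hκ2 σ hσ hσp hN hNinv, hgen]; push_cast at hr ⊢; nlinarith)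
    have x₃ : Subsingleton (Coh.HH (Sq k C) S.X₃ 1) :=
      (Module.finrank_zero_iff (R := k)).1 ((h₃ 1).trans Module.finrank_zero_of_subsingleton)
    haveI := H28Surf.subsingleton_HH_ext k hS 1 x₁ x₃
    exact (H29RR.hhIso (k := k) i₂ 1).symm.toEquiv.subsingleton

include hdim hg hgen hκ hκ2 hσ hN hNinv in
theorem h0_Mr (m : ℕ) (hm : g ≤ m) (r : ℕ) (hr : ((g : ℤ) - 1) * (r + 1) < 2 * m) :
    (Module.finrank k (Coh.HH (Sq k C) (Mr κ N m r) 0) : ℤ) =
      (2 * (m : ℤ) - ((g : ℤ) - 1)) ^ 2 + 4 * (m : ℤ) * r - ((g : ℤ) - 1) * r * (r + 2) := by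
  haveI := h1_Mr hdim hg hgen κ hκ hκ2 σ hσ hσp hN hNinv m hm r hr
  haveI := h2_Mr hdim hg hgen κ hκ hκ2 σ hσ hσp hN hNinv m hm r
  rw [← euler_Mr hdim hg hgen κ hκ hκ2 σ hσ hσp hN hNinv m r, euler_sq hdim (isCoh_Mr hdim κ hN m r).1,
    Module.finrank_zero_of_subsingleton (R := k) (M := Coh.HH (Sq k C) (Mr κ N m r) 1),
    Module.finrank_zero_of_subsingleton (R := k) (M := Coh.HH (Sq k C) (Mr κ N m r) 2)]
  push_cast
  ring

include hdim hg hgen hκ hκ2 hσ hN hNinv in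
/-- Sections lift from the graph in positive degree. -/
theorem h0_step_pos (m r : ℕ) (hm : g ≤ m) (hpos : ((g : ℤ) - 1) * (r + 1) < 2 * m) :
    Module.finrank k (Coh.HH (Sq k C) (Mr κ N m (r + 1)) 0) = Module.finrank k (Coh.HH (Sq k C) (Mr κ N m r) 0) +
      Module.finrank k (Coh.HH C ((Scheme.Modules.pullback (gr σ hσp)).obj (Mr κ N m (r + 1))) 0) := by
  obtain ⟨hP, -, -, -⟩ := sq_props (k := k) (C := C) hdim
  haveI := hP
  obtain ⟨S, hS, c₁, c₂, c₃, ⟨i₁⟩, ⟨i₂⟩, h₃⟩ := exists_gseq hdim κ σ hσp hN hNinv m r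
  haveI := h1_Mr hdim hg hgen κ hκ hκ2 σ hσ hσp hN hNinv m hm r hpos
  have h := finrank_zero_add (k := k) hS c₂ (H29RR.hhIso (k := k) i₁ 1).toEquiv.subsingleton
  rw [(H29RR.hhIso (k := k) i₁ 0).finrank_eq, (H29RR.hhIso (k := k) i₂ 0).finrank_eq, h₃ 0] at h
  exact h

include hdim hg hgen hκ hκ2 hσ hN hNinv in
/-- Sections do not grow in negative degree. -/
theorem h0_step_neg (m r : ℕ) (hneg : 2 * (m : ℤ) < ((g : ℤ) - 1) * (r + 1)) :
    Module.finrank k (Coh.HH (Sq k C) (Mr κ N m (r + 1)) 0) = Module.finrank k (Coh.HH (Sq k C) (Mr κ N m r) 0) := by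
  obtain ⟨hP, -, -, -⟩ := sq_props (k := k) (C := C) hdim
  haveI := hP
  haveI : IsIntegral C := H8Props.DvrCurve.isIntegral_of_smooth_connected (C ↘ Spec (CommRingCat.of k))
  obtain ⟨S, hS, c₁, c₂, c₃, ⟨i₁⟩, ⟨i₂⟩, h₃⟩ := exists_gseq hdim κ σ hσp hN hNinv m r
  haveI := H10Coh.finite_HH_proper k (Sq k C) _ c₃ 0
  have hA : PicF.IsInvertible ((Scheme.Modules.pullback (gr σ hσp)).obj (Mr κ N m (r + 1))) :=
    H11Ample.isInvertible_pullback _ (H11Ample.isInvertible_tensor (isInvertible_Fm κ m) (H11Ample.isInvertible_tensorPow hN (r + 1)))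
  haveI := H29RR.finite_HH (k := k) _ hA 0
  have x₃ : Subsingleton (Coh.HH (Sq k C) S.X₃ 0) := by
    refine (Module.finrank_zero_iff (R := k)).1 ((h₃ 0).trans ?_)
    by_contra hne
    have h := (H29RR.bounds_of_section (k := k) hdim.le hA
      (Module.nontrivial_of_finrank_pos (R := k) (Nat.pos_of_ne_zero hne))).1
    rw [deg_twist_gr hdim hg hgen κ hκ hκ2 σ hσ hσp hN hNinv] at h
    push_cast at h
    nlinarith
  have h := finrank_zero_eq (k := k) hS c₂ x₃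
  rw [(H29RR.hhIso (k := k) i₁ 0).finrank_eq, (H29RR.hhIso (k := k) i₂ 0).finrank_eq] at h
  exact h

include hdim hg hgen hκ hκ2 hσ hN hNinv in
theorem h0_Mr_small (m : ℕ) (hm : g ≤ m) (r : ℕ) (hpos : ((g : ℤ) - 1) * r < 2 * m)
    (hle : 2 * (m : ℤ) ≤ ((g : ℤ) - 1) * (r + 1)) :
    (Module.finrank k (Coh.HH (Sq k C) (Mr κ N m r) 0) : ℤ) =
      (2 * (m : ℤ) - ((g : ℤ) - 1)) ^ 2 + 4 * (m : ℤ) * r - ((g : ℤ) - 1) * r * (r + 1) - 2 * m + g := by
  haveI : IsIntegral C := H8Props.DvrCurve.isIntegral_of_smooth_connected (C ↘ Spec (CommRingCat.of k))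
  obtain ⟨q, rfl⟩ : ∃ q, r = q + 1 := ⟨r - 1, by
    rcases r with _ | r
    · push_cast at hle; omega
    · omega⟩
  push_cast at hpos hle
  obtain ⟨s, hs⟩ : ∃ s : ℕ, (s : ℤ) = 2 * (m : ℤ) - ((g : ℤ) - 1) * ((q + 1 : ℕ) : ℤ) :=
    ⟨(2 * (m : ℤ) - ((g : ℤ) - 1) * ((q + 1 : ℕ) : ℤ)).toNat, Int.toNat_of_nonneg (by push_cast; linarith)⟩
  obtain ⟨e⟩ := nonempty_twist_gr_eq hdim hg hgen κ hκ hκ2 σ hσ hσp hN hNinv m (q + 1) s hs
  obtain ⟨hrd, hη⟩ := H29DoubleCover.residueDegree_of_finrank hdim κ hκ hκ2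
  have hN' := fun x => (H28Neron.isNormalScheme_of_smooth (C ↘ Spec (CommRingCat.of k))
    (H29DoubleCover.isNormalScheme_spec_field k) x).2
  have hsg : s ≤ g := by push_cast at hs; nlinarith
  have h0 := H29DoubleCover.finrank_h0_pencil_pow κ hη hκ hN' (hκ2 _) hgen (by omega) (r := s) hsg
  rw [h0_step_pos hdim hg hgen κ hκ hκ2 σ hσ hσp hN hNinv m q hm hpos,
    (H29RR.hhIso (k := k) e 0).finrank_eq, h0]
  push_cast
  rw [h0_Mr hdim hg hgen κ hκ hκ2 σ hσ hσp hN hNinv m hm q hpos, hs]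
  push_cast
  ring

end Groth.Agent.H10Coh.HypSq
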