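import Groth.Agent.H10Coh.HypSq.Graph
import Groth.Agent.S7635

/-!
# Cohomology of `F_m ⊗ N^r` on the square of a hyperelliptic curve
-/

set_option autoImplicit false
set_option linter.style.haveILetI false
set_option linter.unusedSectionVars false
set_option backward.isDefEq.respectTransparency.types false

universe u

open CategoryTheory CategoryTheory.Limits AlgebraicGeometry

namespace Groth.Agent.H10Coh.HypSq

section general

variable {k : Type u} [Field k] {X : Scheme.{u}} [X.Over (Spec (CommRingCat.of k))]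
  [IsProper (X ↘ Spec (CommRingCat.of k))] {S : ShortComplex X.Modules}

/-- Global sections are additive when the first cohomology of the subobject vanishes. -/
theorem finrank_zero_add (hS : S.ShortExact) (h₂ : Coh.IsCoh S.X₂) (h : Subsingleton (Coh.HH X S.X₁ 1)) :
    Module.finrank k (Coh.HH X S.X₂ 0) = Module.finrank k (Coh.HH X S.X₁ 0) + Module.finrank k (Coh.HH X S.X₃ 0) := by
  haveI := H10Coh.finite_HH_proper k X _ h₂ 0
  rw [← LinearMap.finrank_range_add_finrank_ker (Canon.HHlin k S.g 0), H25Par.hhlin_exact (k := k) hS,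
    LinearMap.finrank_range_of_inj (H28Surf.hhlin_injective k hS),
    LinearMap.range_eq_top.2 (H25Par.hhlin_surjective (k := k) hS h), finrank_top]
  omega

/-- Global sections do not change when the quotient has none. -/
theorem finrank_zero_eq (hS : S.ShortExact) (h₂ : Coh.IsCoh S.X₂) (h : Subsingleton (Coh.HH X S.X₃ 0)) :
    Module.finrank k (Coh.HH X S.X₂ 0) = Module.finrank k (Coh.HH X S.X₁ 0) := by
  haveI := H10Coh.finite_HH_proper k X _ h₂ 0
  have h' : LinearMap.range (Canon.HHlin k S.g 0) = ⊥ := Submodule.eq_bot_of_subsingleton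
  rw [← LinearMap.finrank_range_add_finrank_ker (Canon.HHlin k S.g 0), H25Par.hhlin_exact (k := k) hS,
    LinearMap.finrank_range_of_inj (H28Surf.hhlin_injective k hS), h', finrank_bot, zero_add]

end general

variable {k : Type u} [Field k] [IsAlgClosed k] {C : Scheme.{u}} [C.Over (Spec (CommRingCat.of k))]
  [IsProper (C ↘ Spec (CommRingCat.of k))] [Smooth (C ↘ Spec (CommRingCat.of k))] [ConnectedSpace ↥C]
  (hdim : topologicalKrullDim ↥C = 1) {g : ℕ} (hg : 2 ≤ g) (hgen : Curv2.genus k C = g)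
  (κ : C ⟶ CohB1.ProjSpace 1 k) (hκ : κ ≫ CohB1.ProjSpace.toSpec 1 k = (C ↘ Spec (CommRingCat.of k)))
  [IsFinite κ] [Flat κ] (hκ2 : ∀ y : ↥(CohB1.ProjSpace 1 k), κ.finrank y = 2)
  (σ : C ⟶ C) (hσ : σ ≫ κ = κ) (hσ1 : σ ≠ 𝟙 C)
  (hσp : σ ≫ (C ↘ Spec (CommRingCat.of k)) = (C ↘ Spec (CommRingCat.of k)))

attribute [local instance] overSq

theorem isInvertible_Fm (m : ℕ) : PicF.IsInvertible (Fm κ m) :=
  H11Ample.isInvertible_tensor (H11Ample.isInvertible_pullback _ (H11Ample.isInvertible_tensorPow (isInvertible_pencil κ) m))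
    (H11Ample.isInvertible_pullback _ (H11Ample.isInvertible_tensorPow (isInvertible_pencil κ) m))

include hdim in
/-- The cohomology of `F_m` from that of `L^m`. -/
theorem finrank_Fm (m n : ℕ) : Module.finrank k (Coh.HH (Sq k C) (Fm κ m) n) =
    ∑ p : Fin (n + 1), Module.finrank k (Coh.HH C (CohB1.tensorPow (pencil κ) m) (p : ℕ)) *
      Module.finrank k (Coh.HH C (CohB1.tensorPow (pencil κ) m) (n - (p : ℕ))) := by
  haveI : CompactSpace ↥C := QuasiCompact.compactSpace_of_compactSpace (C ↘ Spec (CommRingCat.of k))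
  haveI : IsLocallyNoetherian C := LocallyOfFiniteType.isLocallyNoetherian (C ↘ Spec (CommRingCat.of k))
  have hc := H11Ample.isCoh_of_isInvertible (H11Ample.isInvertible_tensorPow (isInvertible_pencil (k := k) κ) m)
  haveI : ∀ p, Module.Finite k (Coh.HH C (CohB1.tensorPow (pencil κ) m) p) := fun p =>
    H10Coh.finite_HH_proper k C _ hc p
  obtain ⟨e⟩ := S7635.result k C C (CohB1.tensorPow (pencil κ) m) hc.1 (CohB1.tensorPow (pencil κ) m) hc.1 n
  refine e.symm.finrank_eq.trans ((Module.finrank_pi_fintype k).trans ?_)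
  simp only [Module.finrank_tensorProduct]

include hdim hg hgen hκ hκ2 in
/-- The Euler characteristic of a power of the pencil. -/
theorem h0_sub_h1_pow (m : ℕ) :
    (Module.finrank k (Coh.HH C (CohB1.tensorPow (pencil κ) m) 0) : ℤ) -
      Module.finrank k (Coh.HH C (CohB1.tensorPow (pencil κ) m) 1) = 2 * (m : ℤ) + 1 - g := by
  haveI : IsIntegral C := H8Props.DvrCurve.isIntegral_of_smooth_connected (C ↘ Spec (CommRingCat.of k))
  rw [H29RR.riemann_roch (k := k) hdim.le, deg_pencil_pow hdim hg hgen κ hκ hκ2, H29RR.finrank_h0_structure k C, hgen]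
  push_cast
  ring

include hdim in
theorem h2_pow (m p : ℕ) (hp : 1 < p) : Module.finrank k (Coh.HH C (CohB1.tensorPow (pencil κ) m) p) = 0 := by
  haveI : IsLocallyNoetherian C := LocallyOfFiniteType.isLocallyNoetherian (C ↘ Spec (CommRingCat.of k))
  haveI := h_above_one (k := k) hdim
    (H11Ample.isCoh_of_isInvertible (H11Ample.isInvertible_tensorPow (isInvertible_pencil (k := k) κ) m)).1 p hp
  exact Module.finrank_zero_of_subsingleton

include hdim in
theorem sq_above_two {M : (Sq k C).Modules} (hM : Coh.IsQCoh M) (p : ℕ) (hp : 2 < p) :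
    Subsingleton (Coh.HH (Sq k C) M p) := by
  obtain ⟨hP, -, -, hd⟩ := sq_props (k := k) (C := C) hdim
  haveI := hP
  exact H10Coh.CurveBdd.subsingleton_HH_of_dim (k := k) hM isClosed_univ (Set.subset_univ _) (d := 2)
    (((Homeomorph.Set.univ ↥(Sq k C)).isHomeomorph.topologicalKrullDim_eq).le.trans hd.le) hp

include hdim in
theorem euler_sq {M : (Sq k C).Modules} (hM : Coh.IsQCoh M) :
    Curv2.euler k (Sq k C) M = (Module.finrank k (Coh.HH (Sq k C) M 0) : ℤ) -
      Module.finrank k (Coh.HH (Sq k C) M 1) + Module.finrank k (Coh.HH (Sq k C) M 2) := by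
  obtain ⟨hP, -, -, -⟩ := sq_props (k := k) (C := C) hdim
  haveI := hP
  rw [H25Euler.euler_eq_sum M 3 fun p hp => sq_above_two hdim hM p hp, Finset.sum_range_succ, Finset.sum_range_succ,
    Finset.sum_range_one]
  ring

variable {N : (Sq k C).Modules} (hN : PicF.IsInvertible N)
  (hNinv : ClSub.IsInverseOf N (ClSub.idealMod (gr σ hσp).ker))

/-- The module `F_m ⊗ N^r`. -/
noncomputable abbrev Mr (N : (Sq k C).Modules) (m r : ℕ) : (Sq k C).Modules :=
  CohB1.tensorMod (Fm κ m) (CohB1.tensorPow N r)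

include hdim hN in
theorem isCoh_Mr (m r : ℕ) : Coh.IsCoh (Mr κ N m r) := by
  obtain ⟨hP, -, -, -⟩ := sq_props (k := k) (C := C) hdim
  haveI := hP
  haveI := H28Int.isNoetherian k (X := Sq k C)
  exact H11Ample.isCoh_of_isInvertible (H11Ample.isInvertible_tensor (isInvertible_Fm κ m) (H11Ample.isInvertible_tensorPow hN r))

include hdim hN hNinv in
/-- The sequence of adding one copy of the graph. -/
theorem exists_gseq (m r : ℕ) :
    ∃ S : ShortComplex (Sq k C).Modules, S.ShortExact ∧ Coh.IsCoh S.X₁ ∧ Coh.IsCoh S.X₂ ∧ Coh.IsCoh S.X₃ ∧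
      Nonempty (S.X₁ ≅ Mr κ N m r) ∧ Nonempty (S.X₂ ≅ Mr κ N m (r + 1)) ∧
      ∀ n, Module.finrank k (Coh.HH (Sq k C) S.X₃ n) =
        Module.finrank k (Coh.HH C ((Scheme.Modules.pullback (gr σ hσp)).obj (Mr κ N m (r + 1))) n) := by
  obtain ⟨hp, hs, hi, -⟩ := sq_props (k := k) (C := C) hdim
  haveI := hp; haveI := hs; haveI := hi
  haveI := H28Int.isNoetherian k (X := Sq k C)
  haveI : IsLocallyNoetherian C := LocallyOfFiniteType.isLocallyNoetherian (C ↘ Spec (CommRingCat.of k))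
  haveI := isClosedImmersion_gr σ hσp
  obtain ⟨eN⟩ := hNinv
  have hM : PicF.IsInvertible (Mr κ N m (r + 1)) :=
    H11Ample.isInvertible_tensor (isInvertible_Fm κ m) (H11Ample.isInvertible_tensorPow hN (r + 1))
  obtain ⟨S, hS, e₁, e₂, e₃⟩ := H28Surf.exists_restrict_seq k (gr σ hσp).ker hM
  let i₁ : S.X₁ ≅ Mr κ N m r := eqToIso e₁ ≪≫ H10Coh.Tw.commIso _ _ ≪≫ H10Coh.Tw.assoc _ _ _ ≪≫
    PicGrp.tensorModIso (Iso.refl _) (H10Coh.Tw.assoc _ N _ ≪≫ PicGrp.tensorModIso (Iso.refl _) eN ≪≫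
      H10Coh.Tw.rightUnitIso _)
  let i₂ : S.X₂ ≅ Mr κ N m (r + 1) := eqToIso e₂ ≪≫ H10Coh.Tw.leftUnitIso _
  haveI : (Coh.structureModule C).IsQuasicoherent := H10Coh.isQuasicoherent_unit
  obtain ⟨t⟩ := H10Coh.Tw.nonempty_push_tensor_iso (gr σ hσp) (Coh.structureModule C) hM
  let i₃ : S.X₃ ≅ (Coh.push (gr σ hσp)).obj ((Scheme.Modules.pullback (gr σ hσp)).obj (Mr κ N m (r + 1))) :=
    eqToIso e₃ ≪≫ PicGrp.tensorModIso (H28Vert.quotModKerIso (gr σ hσp)) (Iso.refl _) ≪≫ t ≪≫
      (Coh.push (gr σ hσp)).mapIso (H10Coh.Tw.leftUnitIso _)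
  have hc : Coh.IsCoh ((Scheme.Modules.pullback (gr σ hσp)).obj (Mr κ N m (r + 1))) :=
    H11Ample.isCoh_of_isInvertible (H11Ample.isInvertible_pullback _ hM)
  refine ⟨S, hS, H10Coh.isCoh_of_iso i₁.symm (isCoh_Mr hdim κ hN m r),
    H10Coh.isCoh_of_iso i₂.symm (isCoh_Mr hdim κ hN m (r + 1)),
    e₃ ▸ H11Ample.isCoh_tensor (H28Surf.isCoh_quot k _) hM, ⟨i₁⟩, ⟨i₂⟩, fun n => ?_⟩
  haveI := hc.1
  rw [(H29RR.hhIso (k := k) i₃ n).finrank_eq]
  exact H28Int.Push.finrank_HH_push k (gr σ hσp) (gr_over σ hσp) _ n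

end Groth.Agent.H10Coh.HypSq
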